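/-
An element `β` of order three of `Ω⁻₆(2)` moving an anisotropic plane, and the elements of `Ω⁻₆(2)`
centralising it and fixing the plane (helper18).

* `β`, `exists_conj_β` : the element; transitivity
* `el`, `exists_el` : the 36 elements of `C_Ω(β)` fixing the plane
* `el_t`, `el_norm`, `el_cent`, `el_nine` : the two further planes and their group of order nine
-/
import Cfsg.Agent.Lib.SuzThree.Bits
import Cfsg.Agent.Lib.SuzType.Coord

set_option autoImplicit false

namespace Cfsg.Agent.SuzThree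

open Cfsg.Agent.SuzType Cfsg.Agent.Orth
open QuadraticMap (polar)

/-- The first vector of the plane. -/
def pa : V6 := ofN 16
/-- The second vector of the plane. -/
def pb : V6 := ofN 32

/-- The element of order three. -/
noncomputable def β : IsoGrp qm := prd [16, 32]

theorem qN_pab : ∀ d ∈ [16, 32], qN d = true := by decide

theorem ap_β (n : ℕ) : ap β (ofN n) = ofN (prN [16, 32] n) := ap_prd qN_pab n

/-- Two numbers give one vector only if they agree. -/
theorem eq_of_all {g h : IsoGrp qm} (H : ∀ n < 64, ap g (ofN n) = ap h (ofN n)) :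
    g = h :=
  ext_ap fun x => by
    have := H (toN x) (toN_lt x)
    rwa [ofN_toN] at this

theorem b2_one : ∀ b : Bool, b2 b = 1 → b = true := by decide
theorem b2_zero : ∀ b : Bool, b2 b = 0 → b = false := by decide

theorem qm_ne {d : ℕ} (hd : qN d = true) : qm (ofN d) ≠ 0 := by
  rw [qm_ofN, hd]; exact one_ne_zero

theorem β_mem : β ∈ Cfsg.Omega (ZMod 2) ⇑qm := by
  have := SuzType.refl_mul_refl_mem (qm_ne (show qN 16 = true by decide))
    (qm_ne (show qN 32 = true by decide))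
  simpa [β, prd] using this

theorem β_tab : ∀ n < 64, prN [16, 32] (prN [16, 32] (prN [16, 32] n)) = n := by
  decide +kernel

theorem β_cube : β ^ 3 = 1 :=
  eq_of_all fun n hn => by
    simp only [pow_succ, pow_zero, one_mul, ap_mul, ap_β, β_tab n hn, ap_one]

theorem β_pa : ap β pa = pb := by
  rw [pa, ap_β, show prN [16, 32] 16 = 32 by decide]; rfl

theorem β_pb : ap β pb = pa + pb := by
  rw [pa, pb, ap_β, ← ofN_xor, show prN [16, 32] 32 = 16 ^^^ 32 by decide]

theorem qm_pa : qm pa = 1 := by rw [pa, qm_ofN, show qN 16 = true by decide]; rfl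
theorem qm_pb : qm pb = 1 := by rw [pb, qm_ofN, show qN 32 = true by decide]; rfl
theorem polar_pab : polar ⇑qm pa pb = 1 := by
  rw [pa, pb, polar_ofN, show pN 16 32 = true by decide]; rfl

theorem fix_tab : ∀ n < 64, pN n 16 = false → pN n 32 = false → prN [16, 32] n = n := by
  decide +kernel

theorem β_fix {x : V6} (ha : polar ⇑qm x pa = 0) (hb : polar ⇑qm x pb = 0) : ap β x = x := by
  obtain ⟨n, hn, rfl⟩ : ∃ n < 64, ofN n = x := ⟨toN x, toN_lt x, ofN_toN x⟩
  rw [pa, polar_ofN] at ha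
  rw [pb, polar_ofN] at hb
  rw [ap_β, fix_tab n hn (b2_zero _ ha) (b2_zero _ hb)]

theorem split_tab : ∀ n < 64, ∃ w ∈ [0, 16, 32, 48],
    pN (n ^^^ w) 16 = false ∧ pN (n ^^^ w) 32 = false := by decide +kernel

/-- An isometry is determined on the plane and its orthogonal. -/
theorem eq_β {g : IsoGrp qm} (ha : ap g pa = pb) (hb : ap g pb = pa + pb)
    (hfix : ∀ x : V6, polar ⇑qm x pa = 0 → polar ⇑qm x pb = 0 → ap g x = x) : g = β := by
  refine eq_of_all fun n hn => ?_
  obtain ⟨w, hw, h1, h2⟩ := split_tab n hn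
  have hu := hfix (ofN (n ^^^ w)) (by rw [pa, polar_ofN, h1]; rfl)
    (by rw [pb, polar_ofN, h2]; rfl)
  have hu' := β_fix (x := ofN (n ^^^ w)) (by rw [pa, polar_ofN, h1]; rfl)
    (by rw [pb, polar_ofN, h2]; rfl)
  have hwe : ap g (ofN w) = ap β (ofN w) := by
    have h176 : ofN 48 = pa + pb := by rw [pa, pb, ← ofN_xor]; rfl
    simp only [List.mem_cons, List.not_mem_nil, or_false] at hw
    rcases hw with rfl | rfl | rfl | rfl
    · simp [ofN_zero]
    · exact ha.trans β_pa.symm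
    · exact hb.trans β_pb.symm
    · rw [h176, map_add, map_add, ha, hb, β_pa, β_pb]
  have hn' : ofN n = ofN (n ^^^ w) + ofN w := by
    rw [← ofN_xor, Nat.xor_xor_cancel_right]
  rw [hn', map_add, map_add, hu, hu', hwe]

/-! ### Transitivity -/

theorem move_pa_tab : ∀ n < 64, qN n = true → ∃ d₂ < 64, qN d₂ = true ∧
    pN (rfN d₂ n) 16 = true := by
  decide +kernel

theorem move_pb_tab : ∀ n < 64, qN n = true → pN n 16 = true → ∃ d₂ < 64,
    qN d₂ = true ∧ pN d₂ 16 = false ∧ pN (rfN d₂ n) 32 = true := by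
  decide +kernel

theorem qm_one_of {x y : V6} (hx : qm x = 1) (hy : qm y = 1) (hxy : polar ⇑qm x y = 1) :
    qm (x + y) = 1 := by
  rw [Q_add, hx, hy, hxy]; decide

theorem refl_swap {x y : V6} (hx : qm x = 1) (hy : qm y = 1) (hxy : polar ⇑qm x y = 1) :
    ap (refl qm (x + y)) x = y := by
  rw [refl_ap, qm_one_of hx hy hxy, inv_one, one_mul, pl_add_left, pl_self,
    show (2 : ZMod 2) = 0 from rfl, zero_mul, zero_add, pl_comm qm y x, hxy, one_smul,
    sub_eq_add_neg, ZModModule.neg_eq_self, ← add_assoc, ZModModule.add_self, zero_add]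

theorem exists_omega_pa {x : V6} (hx : qm x = 1) :
    ∃ ω ∈ Cfsg.Omega (ZMod 2) ⇑qm, ap ω x = pa := by
  obtain ⟨n, hn, rfl⟩ : ∃ n < 64, ofN n = x := ⟨toN x, toN_lt x, ofN_toN x⟩
  rw [qm_ofN] at hx
  obtain ⟨d, -, hd, hp⟩ := move_pa_tab n hn (b2_one _ hx)
  set m := ap (refl qm (ofN d)) (ofN n) with hm
  have hm1 : qm m = 1 := by rw [hm, Q_ap, qm_ofN]; exact hx
  have hm2 : polar ⇑qm m pa = 1 := by rw [hm, ap_rfN hd, pa, polar_ofN, hp]; rfl
  refine ⟨refl qm (m + pa) * refl qm (ofN d), SuzType.refl_mul_refl_mem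
    (by rw [qm_one_of hm1 qm_pa hm2]; exact one_ne_zero) (qm_ne hd), ?_⟩
  rw [ap_mul, ← hm, refl_swap hm1 qm_pa hm2]

theorem exists_omega_pb {x : V6} (hx : qm x = 1) (hxa : polar ⇑qm x pa = 1) :
    ∃ ω ∈ Cfsg.Omega (ZMod 2) ⇑qm, ap ω x = pb ∧ ap ω pa = pa := by
  obtain ⟨n, hn, rfl⟩ : ∃ n < 64, ofN n = x := ⟨toN x, toN_lt x, ofN_toN x⟩
  rw [qm_ofN] at hx
  rw [pa, polar_ofN] at hxa
  obtain ⟨d, -, hd, hd0, hp⟩ := move_pb_tab n hn (b2_one _ hx) (b2_one _ hxa)
  set m := ap (refl qm (ofN d)) (ofN n) with hm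
  have hfix : ap (refl qm (ofN d)) pa = pa :=
    refl_ap_of_orth qm (by rw [pa, polar_ofN, hd0]; rfl)
  have hm1 : qm m = 1 := by rw [hm, Q_ap, qm_ofN]; exact hx
  have hm2 : polar ⇑qm m pb = 1 := by rw [hm, ap_rfN hd, pb, polar_ofN, hp]; rfl
  have hm3 : polar ⇑qm m pa = 1 := by
    rw [hm, ← hfix, polar_ap, pa, polar_ofN]; exact hxa
  refine ⟨refl qm (m + pb) * refl qm (ofN d), SuzType.refl_mul_refl_mem
    (by rw [qm_one_of hm1 qm_pb hm2]; exact one_ne_zero) (qm_ne hd), ?_, ?_⟩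
  · rw [ap_mul, ← hm, refl_swap hm1 qm_pb hm2]
  · rw [ap_mul, hfix]
    refine refl_ap_of_orth qm ?_
    rw [pl_add_left, hm3, pl_comm qm pb pa, polar_pab]
    decide

/-- An element turning an anisotropic plane and fixing its orthogonal is conjugate to `β`. -/
theorem exists_conj_β {g : IsoGrp qm} {a : V6} (ha : qm a = 1)
    (hab : polar ⇑qm a (ap g a) = 1) (h3 : ap g (ap g a) = a + ap g a)
    (hfix : ∀ x : V6, polar ⇑qm x a = 0 → polar ⇑qm x (ap g a) = 0 → ap g x = x) :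
    ∃ ω ∈ Cfsg.Omega (ZMod 2) ⇑qm, ω * g * ω⁻¹ = β := by
  obtain ⟨ω₁, h1, e1⟩ := exists_omega_pa ha
  obtain ⟨ω₂, h2, e2, e2a⟩ := exists_omega_pb (x := ap ω₁ (ap g a)) (by rw [Q_ap, Q_ap, ha])
    (by rw [← e1, polar_ap, pl_comm]; exact hab)
  refine ⟨ω₂ * ω₁, mul_mem h2 h1, ?_⟩
  have ea : ap (ω₂ * ω₁) a = pa := by rw [ap_mul, e1, e2a]
  have eb : ap (ω₂ * ω₁) (ap g a) = pb := by rw [ap_mul, e2]
  refine eq_β ?_ ?_ fun x hxa hxb => ?_
  · conv_lhs => rw [← ea]
    rw [ap_mul, ap_mul, ap_inv_ap]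
    exact eb
  · conv_lhs => rw [← eb]
    rw [ap_mul, ap_mul, ap_inv_ap, h3, map_add, ea, eb]
  · rw [ap_mul, ap_mul, hfix _ ?_ ?_, ap_ap_inv]
    · rw [← polar_ap (ω₂ * ω₁), ap_ap_inv, ea]; exact hxa
    · rw [← polar_ap (ω₂ * ω₁), ap_ap_inv, eb]; exact hxb

/-! ### The stabiliser of the plane -/

/-- Indices of the elements. -/
abbrev Ix : Type := Fin 3 × Fin 3 × Fin 2 × Fin 2

/-- The reflections of an element. -/
def wd (w : Ix) : List ℕ :=
  (List.replicate (w.1 : ℕ) [3, 13]).flatten ++ (List.replicate (w.2.1 : ℕ) [12, 7]).flatten ++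
    (List.replicate (w.2.2.1 : ℕ) [3, 12]).flatten ++ (List.replicate (w.2.2.2 : ℕ) [16, 21, 26, 31]).flatten

/-- The element. -/
noncomputable def el (w : Ix) : IsoGrp qm := prd (wd w)

theorem wd_q : ∀ w, ∀ d ∈ wd w, qN d = true := by decide +kernel

theorem ap_el (w : Ix) (n : ℕ) : ap (el w) (ofN n) = ofN (prN (wd w) n) := ap_prd (wd_q w) n

theorem prd_append (l l' : List ℕ) : prd (l ++ l') = prd l * prd l' := by
  simp [prd, List.map_append, List.prod_append]

theorem prd_pair {a b : ℕ} (ha : qN a = true) (hb : qN b = true) :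
    prd [a, b] ∈ Cfsg.Omega (ZMod 2) ⇑qm := by
  simpa [prd] using SuzType.refl_mul_refl_mem (qm_ne ha) (qm_ne hb)

theorem prd_replicate_mem {l : List ℕ} (hl : prd l ∈ Cfsg.Omega (ZMod 2) ⇑qm) (n : ℕ) :
    prd (List.replicate n l).flatten ∈ Cfsg.Omega (ZMod 2) ⇑qm := by
  induction n with
  | zero => simp [prd]
  | succ n ih => rw [List.replicate_succ, List.flatten_cons, prd_append]; exact mul_mem hl ih

theorem el_mem (w : Ix) : el w ∈ Cfsg.Omega (ZMod 2) ⇑qm := by
  rw [el, wd, prd_append, prd_append, prd_append]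
  refine mul_mem (mul_mem (mul_mem ?_ ?_) ?_) ?_ <;> apply prd_replicate_mem
  · exact prd_pair (by decide) (by decide)
  · exact prd_pair (by decide) (by decide)
  · exact prd_pair (by decide) (by decide)
  · rw [show [16, 21, 26, 31] = [16, 21] ++ [26, 31] from rfl, prd_append]
    exact mul_mem (prd_pair (by decide) (by decide)) (prd_pair (by decide) (by decide))

theorem el_plane_tab : ∀ w, prN (wd w) 16 = 16 ∧ prN (wd w) 32 = 32 := by decide +kernel

theorem el_pa (w : Ix) : ap (el w) pa = pa := by rw [pa, ap_el, (el_plane_tab w).1]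
theorem el_pb (w : Ix) : ap (el w) pb = pb := by rw [pb, ap_el, (el_plane_tab w).2]

theorem el_comm_tab : ∀ w, ∀ n < 64, prN (wd w) (prN [16, 32] n) = prN [16, 32] (prN (wd w) n) := by
  decide +kernel

theorem el_comm (w : Ix) : el w * β = β * el w :=
  eq_of_all fun n hn => by rw [ap_mul, ap_mul, ap_β, ap_el, ap_el, ap_β, el_comm_tab w n hn]

/-- A basis: the plane and two vectors in each of two further planes. -/
def basN : List ℕ := [16, 32, 3, 13, 12, 7]

theorem bas_tab : ∀ n < 64, ∃ k < 64,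
    (List.range 6).foldl (fun m i => if k.testBit i then m ^^^ basN.getD i 0 else m) 0 = n := by
  decide +kernel

theorem eq_of_basis {g h : IsoGrp qm}
    (H : ∀ d ∈ basN, ap g (ofN d) = ap h (ofN d)) : g = h := by
  refine eq_of_all fun n hn => ?_
  obtain ⟨k, -, rfl⟩ := bas_tab n hn
  have key : ∀ (L : List ℕ), (∀ i ∈ L, i < 6) → ∀ m : ℕ, ap g (ofN m) = ap h (ofN m) →
      ap g (ofN (L.foldl (fun m i => if k.testBit i then m ^^^ basN.getD i 0 else m) m)) =
        ap h (ofN (L.foldl (fun m i => if k.testBit i then m ^^^ basN.getD i 0 else m) m)) := by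
    intro L
    induction L with
    | nil => exact fun _ m hm => hm
    | cons i L ih =>
      intro hL m hm
      refine ih (fun j hj => hL j (List.mem_cons_of_mem _ hj)) _ ?_
      show ap g (ofN (if k.testBit i then m ^^^ basN.getD i 0 else m)) =
        ap h (ofN (if k.testBit i then m ^^^ basN.getD i 0 else m))
      split
      · have hi := hL i List.mem_cons_self
        rw [ofN_xor, map_add, map_add, hm]
        congr 1
        refine H _ ?_
        interval_cases i <;> simp [basN]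
      · exact hm
  exact key _ (fun i hi => List.mem_range.1 hi) 0 (by rw [ofN_zero, map_zero, map_zero])

/-- The six vectors of norm one in the orthogonal. -/
def six : List ℕ := [3, 13, 14, 12, 7, 11]

theorem six_tab' : ∀ n < 64, qN n = true → pN n 16 = false → pN n 32 = false →
    six.contains n = true := by
  decide +kernel

theorem six_tab (n : ℕ) (hn : n < 64) (hq : qN n = true) (h1 : pN n 16 = false) (h2 : pN n 32 = false) :
    n ∈ six := List.contains_iff_mem.1 (six_tab' n hn hq h1 h2)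

theorem cover_tab : ∀ a ∈ six, ∀ b ∈ six, pN a b = true → ∀ c ∈ six, pN a c = false → pN b c = false →
    ∀ d ∈ six, pN a d = false → pN b d = false → pN c d = true →
    ∃ w : Ix, (prN (wd w) 3 = a ∧ prN (wd w) 13 = b ∧ prN (wd w) 12 = c ∧ prN (wd w) 7 = d) ∨
      (prN (3 :: wd w) 3 = a ∧ prN (3 :: wd w) 13 = b ∧ prN (3 :: wd w) 12 = c ∧ prN (3 :: wd w) 7 = d) := by
  decide +kernel

theorem r3_plane : prN [3] 16 = 16 ∧ prN [3] 32 = 32 := by decide

/-- An element of the centraliser fixing the plane is one of the 36. -/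
theorem exists_el {ω : IsoGrp qm} (hΩ : ω ∈ Cfsg.Omega (ZMod 2) ⇑qm) (ha : ap ω pa = pa)
    (hb : ap ω pb = pb) : ∃ w : Ix, ω = el w := by
  have hsix : ∀ m ∈ six, qN m = true ∧ pN m 16 = false ∧ pN m 32 = false := by decide
  have img : ∀ m ∈ six, ∃ a ∈ six, ap ω (ofN m) = ofN a := by
    intro m hm
    obtain ⟨hq, h1, h2⟩ := hsix m hm
    obtain ⟨a, ha', he⟩ : ∃ a < 64, ofN a = ap ω (ofN m) := ⟨_, toN_lt _, ofN_toN _⟩
    refine ⟨a, six_tab a ha' ?_ ?_ ?_, he.symm⟩
    · refine b2_one _ ?_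
      rw [← qm_ofN, he, Q_ap, qm_ofN, hq]; rfl
    · refine b2_zero _ ?_
      rw [← polar_ofN, he]
      show polar ⇑qm (ap ω (ofN m)) pa = 0
      rw [← ha, polar_ap, pa, polar_ofN, h1]; rfl
    · refine b2_zero _ ?_
      rw [← polar_ofN, he]
      show polar ⇑qm (ap ω (ofN m)) pb = 0
      rw [← hb, polar_ap, pb, polar_ofN, h2]; rfl
  obtain ⟨a, has, ea⟩ := img 3 (by decide)
  obtain ⟨b, hbs, eb⟩ := img 13 (by decide)
  obtain ⟨c, hcs, ec⟩ := img 12 (by decide)
  obtain ⟨d, hds, ed⟩ := img 7 (by decide)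
  have inj : ∀ u v : Bool, b2 u = b2 v → u = v := by decide
  have hp : ∀ {m n u v : ℕ}, ap ω (ofN m) = ofN u → ap ω (ofN n) = ofN v → pN u v = pN m n := by
    intro m n u v hu hv
    refine inj _ _ ?_
    rw [← polar_ofN, ← polar_ofN, ← hu, ← hv, polar_ap]
  obtain ⟨w, h | h⟩ := cover_tab a has b hbs ((hp ea eb).trans (by decide)) c hcs
    ((hp ea ec).trans (by decide)) ((hp eb ec).trans (by decide)) d hds
    ((hp ea ed).trans (by decide)) ((hp eb ed).trans (by decide)) ((hp ec ed).trans (by decide))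
  · refine ⟨w, eq_of_basis fun n hn => ?_⟩
    simp only [basN, List.mem_cons, List.not_mem_nil, or_false] at hn
    rw [ap_el]
    rcases hn with rfl | rfl | rfl | rfl | rfl | rfl
    · rw [(el_plane_tab w).1]; exact ha
    · rw [(el_plane_tab w).2]; exact hb
    · rw [h.1, ea]
    · rw [h.2.1, eb]
    · rw [h.2.2.1, ec]
    · rw [h.2.2.2, ed]
  · exfalso
    have hω : ω = prd [3] * el w := by
      refine eq_of_basis fun n hn => ?_
      rw [ap_mul, ap_el, ap_prd (by decide : ∀ d ∈ [3], qN d = true)]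
      simp only [basN, List.mem_cons, List.not_mem_nil, or_false] at hn
      rcases hn with rfl | rfl | rfl | rfl | rfl | rfl
      · rw [(el_plane_tab w).1, r3_plane.1]; exact ha
      · rw [(el_plane_tab w).2, r3_plane.2]; exact hb
      · rw [ea]; exact congrArg ofN h.1.symm
      · rw [eb]; exact congrArg ofN h.2.1.symm
      · rw [ec]; exact congrArg ofN h.2.2.1.symm
      · rw [ed]; exact congrArg ofN h.2.2.2.symm
    rw [hω, Subgroup.mul_mem_cancel_right _ (el_mem w)] at hΩ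
    refine SuzType.refl_not_mem (qm_ne (show qN 3 = true by decide)) ?_
    simpa [prd] using hΩ

theorem inj_tab : ∀ u v : Ix, (∀ n ∈ [3, 13, 12, 7], prN (wd u) n = prN (wd v) n) → u = v := by
  decide +kernel

theorem prN_lt : ∀ w : Ix, ∀ n < 64, prN (wd w) n < 64 := by decide +kernel

theorem el_inj : Function.Injective el := fun u v h => inj_tab u v fun n hn => by
  have hn' : n < 64 := by
    revert n
    decide
  exact ofN_inj (prN_lt u n hn') (prN_lt v n hn') (by rw [← ap_el, ← ap_el, h])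

/-- The element of the second plane. -/
noncomputable def t₂ : IsoGrp qm := el (1, 0, 0, 0)
/-- The element of the third plane. -/
noncomputable def t₃ : IsoGrp qm := el (0, 1, 0, 0)
/-- The exchange of the two planes. -/
noncomputable def σ : IsoGrp qm := el (0, 0, 0, 1)

theorem el_mul_tab : ∀ u v : Ix, u.2.2 = (0, 0) → ∀ n ∈ basN, prN (wd u) (prN (wd v) n) =
    if v.2.2 = (0, 0) then prN (wd (u.1 + v.1, u.2.1 + v.2.1, 0, 0)) n else prN (wd u ++ wd v) n := by
  decide +kernel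

theorem el_E_mul (a b a' b' : Fin 3) :
    el (a, b, 0, 0) * el (a', b', 0, 0) = el (a + a', b + b', 0, 0) := by
  refine eq_of_basis fun n hn => ?_
  rw [ap_mul, ap_el, ap_el, ap_el, el_mul_tab (a, b, 0, 0) (a', b', 0, 0) rfl n hn, if_pos rfl]

theorem el_zero : el (0, 0, 0, 0) = 1 := by simp [el, wd, prd]

theorem norm_tab : ∀ w : Ix, ∃ p q : Fin 3 × Fin 3,
    (∀ n ∈ basN, prN (wd w) (prN (wd (1, 0, 0, 0)) n) = prN (wd (p.1, p.2, 0, 0)) (prN (wd w) n)) ∧
    (∀ n ∈ basN, prN (wd w) (prN (wd (0, 1, 0, 0)) n) = prN (wd (q.1, q.2, 0, 0)) (prN (wd w) n)) := by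
  decide +kernel

theorem el_norm (w : Ix) : ∃ p q : Fin 3 × Fin 3,
    el w * t₂ = el (p.1, p.2, 0, 0) * el w ∧ el w * t₃ = el (q.1, q.2, 0, 0) * el w := by
  obtain ⟨p, q, h1, h2⟩ := norm_tab w
  exact ⟨p, q, eq_of_basis fun n hn => by rw [t₂, ap_mul, ap_mul, ap_el, ap_el, ap_el, ap_el, h1 n hn],
    eq_of_basis fun n hn => by rw [t₃, ap_mul, ap_mul, ap_el, ap_el, ap_el, ap_el, h2 n hn]⟩

theorem cent_tab : ∀ w : Ix,
    (∀ n ∈ basN, prN (wd w) (prN (wd (1, 0, 0, 0)) n) = prN (wd (1, 0, 0, 0)) (prN (wd w) n) ∧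
      prN (wd w) (prN (wd (0, 1, 0, 0)) n) = prN (wd (0, 1, 0, 0)) (prN (wd w) n)) →
    w.2.2 = (0, 0) := by
  decide +kernel

theorem el_cent {w : Ix} (h2 : el w * t₂ = t₂ * el w) (h3 : el w * t₃ = t₃ * el w) :
    w.2.2 = (0, 0) := by
  refine cent_tab w fun n hn => ?_
  have hn' : n < 64 := by revert n; decide
  constructor
  · refine ofN_inj (prN_lt _ _ (prN_lt _ _ hn')) (prN_lt _ _ (prN_lt _ _ hn')) ?_
    rw [← ap_el, ← ap_el, ← ap_mul, ← t₂, h2, ap_mul, ap_el, t₂, ap_el]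
  · refine ofN_inj (prN_lt _ _ (prN_lt _ _ hn')) (prN_lt _ _ (prN_lt _ _ hn')) ?_
    rw [← ap_el, ← ap_el, ← ap_mul, ← t₃, h3, ap_mul, ap_el, t₃, ap_el]

theorem nine_tab : ∀ w : Ix, (∀ n ∈ basN, (prN (wd w))^[9] n = n) → w.2.2 = (0, 0) := by
  decide +kernel

theorem el_nine {w : Ix} (h : el w ^ 9 = 1) : w.2.2 = (0, 0) := by
  refine nine_tab w fun n hn => ?_
  have hn' : n < 64 := by revert n; decide
  have hit : ∀ k : ℕ, ap (el w ^ k) (ofN n) = ofN ((prN (wd w))^[k] n) ∧ (prN (wd w))^[k] n < 64 := by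
    intro k
    induction k with
    | zero => simp [hn']
    | succ k ih =>
      refine ⟨?_, ?_⟩
      · rw [pow_succ', ap_mul, ih.1, ap_el, Function.iterate_succ_apply']
      · rw [Function.iterate_succ_apply']; exact prN_lt w _ ih.2
  have h9 := (hit 9).1
  rw [h, ap_one] at h9
  exact (ofN_inj (hit 9).2 hn' h9.symm)

theorem swap_tab : ∀ n ∈ basN,
    prN (wd (0, 0, 0, 1)) (prN (wd (1, 0, 0, 0)) n) = prN (wd (0, 1, 0, 0)) (prN (wd (0, 0, 0, 1)) n) := by
  decide +kernel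

theorem σ_t₂ : σ * t₂ = t₃ * σ :=
  eq_of_basis fun n hn => by rw [σ, t₂, t₃, ap_mul, ap_mul, ap_el, ap_el, ap_el, ap_el, swap_tab n hn]

theorem inv_tab : ∀ n ∈ basN, prN [16, 3] (prN [16, 32] n) = prN [16, 32] (prN [16, 32] (prN [16, 3] n)) := by
  decide +kernel

/-- An element inverting `β`. -/
theorem exists_invert : ∃ ω ∈ Cfsg.Omega (ZMod 2) ⇑qm, ω * β = β ^ 2 * ω := by
  refine ⟨prd [16, 3], prd_pair (by decide) (by decide), eq_of_basis fun n hn => ?_⟩
  rw [pow_two, ap_mul, ap_mul, ap_mul, ap_β, ap_prd (by decide : ∀ d ∈ [16, 3], qN d = true),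
    ap_prd (by decide : ∀ d ∈ [16, 3], qN d = true), ap_β, ap_β, inv_tab n hn]

/-- The moving vectors of `t₂` form an anisotropic plane orthogonal to the first. -/
theorem t₂_conj : ∃ ω ∈ Cfsg.Omega (ZMod 2) ⇑qm, ω * t₂ * ω⁻¹ = β := by
  refine exists_conj_β (a := ofN 3) (by rw [qm_ofN]; decide +kernel) ?_ ?_ fun x h1 h2 => ?_
  · rw [t₂, ap_el, polar_ofN]; decide +kernel
  · rw [t₂, ap_el, ap_el, ← ofN_xor]; decide +kernel
  · obtain ⟨n, hn, rfl⟩ : ∃ n < 64, ofN n = x := ⟨toN x, toN_lt x, ofN_toN x⟩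
    rw [t₂, ap_el] at h2 ⊢
    rw [polar_ofN] at h1 h2
    have tab : ∀ n < 64, pN n 3 = false → pN n (prN (wd (1, 0, 0, 0)) 3) = false →
        prN (wd (1, 0, 0, 0)) n = n := by decide +kernel
    rw [tab n hn (b2_zero _ h1) (b2_zero _ h2)]

end Cfsg.Agent.SuzThree
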