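/-
The centraliser of `β` and its projection onto the stabiliser of the plane (helper18).

* `Cβ`, `K₄`, `π` : the groups and the projection with kernel `⟨β⟩`
* `E₄` : the subgroup of order nine; `natCard_K₄`, `natCard_E₄`
-/
import Cfsg.Agent.Lib.SuzThree.Plane

set_option autoImplicit false

namespace Cfsg.Agent.SuzThree

open Cfsg.Agent.SuzType Cfsg.Agent.Orth
open QuadraticMap (polar)

/-- The centraliser of `β` in `Ω`. -/
noncomputable def Cβ : Subgroup (IsoGrp qm) :=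
  Cfsg.Omega (ZMod 2) ⇑qm ⊓ Subgroup.centralizer {β}

theorem mem_Cβ {ω : IsoGrp qm} :
    ω ∈ Cβ ↔ ω ∈ Cfsg.Omega (ZMod 2) ⇑qm ∧ ω * β = β * ω := by
  rw [Cβ, Subgroup.mem_inf, Subgroup.mem_centralizer_singleton_iff]

theorem β_mem_Cβ : β ∈ Cβ := mem_Cβ.2 ⟨β_mem, rfl⟩

theorem el_mem_Cβ (w : Ix) : el w ∈ Cβ := mem_Cβ.2 ⟨el_mem w, el_comm w⟩

theorem pow_β_pa : ∀ x : V6, x = pa ∨ x = pb ∨ x = pa + pb → ∃ k : ℕ, ap (β ^ k) pa = x := by
  rintro x (rfl | rfl | rfl)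
  · exact ⟨0, by rw [pow_zero, ap_one]⟩
  · exact ⟨1, by rw [pow_one, β_pa]⟩
  · exact ⟨2, by rw [pow_two, ap_mul, β_pa, β_pb]⟩

theorem moved_tab' : ∀ n < 64, qN n = true →
    (∀ u < 64, pN u 16 = false → pN u 32 = false → pN n u = false) →
      [16, 32, 48].contains n = true := by
  decide +kernel

theorem moved_tab (n : ℕ) (hn : n < 64) (h : qN n = true)
    (h' : ∀ u < 64, pN u 16 = false → pN u 32 = false → pN n u = false) : n ∈ [16, 32, 48] :=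
  List.contains_iff_mem.1 (moved_tab' n hn h h')

theorem fix_of_β_tab : ∀ n < 64, prN [16, 32] n = n → pN n 16 = false ∧ pN n 32 = false := by
  decide +kernel

theorem β_lt_tab : ∀ n < 64, prN [16, 32] n < 64 := by decide +kernel

theorem perp_of_fix {x : V6} (h : ap β x = x) : polar ⇑qm x pa = 0 ∧ polar ⇑qm x pb = 0 := by
  obtain ⟨n, hn, rfl⟩ : ∃ n < 64, ofN n = x := ⟨toN x, toN_lt x, ofN_toN x⟩
  rw [ap_β] at h
  obtain ⟨h1, h2⟩ := fix_of_β_tab n hn (ofN_inj (β_lt_tab n hn) hn h)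
  exact ⟨by rw [pa, polar_ofN, h1]; rfl, by rw [pb, polar_ofN, h2]; rfl⟩

theorem exists_pow (ω : Cβ) :
    ∃ k : ℕ, ap ((β ^ k)⁻¹ * (ω : IsoGrp qm)) pa = pa ∧ ap ((β ^ k)⁻¹ * (ω : IsoGrp qm)) pb = pb := by
  obtain ⟨w, hw⟩ := ω
  obtain ⟨-, hc⟩ := mem_Cβ.1 hw
  obtain ⟨k, hk⟩ : ∃ k : ℕ, ap (β ^ k) pa = ap w pa := by
    refine pow_β_pa _ ?_
    obtain ⟨n, hn, he⟩ : ∃ n < 64, ofN n = ap w pa := ⟨_, toN_lt _, ofN_toN _⟩
    have h1 : qN n = true := b2_one _ (by rw [← qm_ofN, he, Q_ap, qm_pa])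
    have h2 : ∀ u < 64, pN u 16 = false → pN u 32 = false → pN n u = false := by
      intro u _ hu1 hu2
      have hfix : ap β (ap w⁻¹ (ofN u)) = ap w⁻¹ (ofN u) := by
        have hβu : ap β (ofN u) = ofN u := β_fix (by rw [pa, polar_ofN, hu1]; rfl) (by rw [pb, polar_ofN, hu2]; rfl)
        rw [← ap_mul, ← (Commute.inv_left (hc : Commute w β)).eq, ap_mul, hβu]
      refine b2_zero _ ?_
      rw [← polar_ofN, he, show ofN u = ap w (ap w⁻¹ (ofN u)) by rw [ap_ap_inv], polar_ap, pl_comm]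
      exact (perp_of_fix hfix).1
    rw [← he]
    have h3 := moved_tab n hn h1 h2
    simp only [List.mem_cons, List.not_mem_nil, or_false] at h3
    rcases h3 with rfl | rfl | rfl
    · exact Or.inl rfl
    · exact Or.inr (Or.inl rfl)
    · exact Or.inr (Or.inr (by rw [pa, pb, ← ofN_xor]; rfl))
  refine ⟨k, by rw [ap_mul, ← hk, ap_inv_ap], ?_⟩
  have hb : ap w pb = ap (β ^ k) pb := by
    rw [← β_pa, ← ap_mul, ← ap_mul, hc, ap_mul, ← hk, ← ap_mul, ← pow_succ', pow_succ]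
  rw [ap_mul, hb, ap_inv_ap]

/-- The stabiliser of the plane in `Cβ`. -/
noncomputable def K₄ : Subgroup (IsoGrp qm) where
  carrier := {ω | ω ∈ Cβ ∧ ap ω pa = pa}
  one_mem' := ⟨one_mem _, ap_one _⟩
  mul_mem' {g h} hg hh := ⟨mul_mem hg.1 hh.1, by rw [ap_mul, hh.2, hg.2]⟩
  inv_mem' {g} hg := ⟨inv_mem hg.1, ap_inj g (by rw [ap_ap_inv, hg.2])⟩

theorem mem_K₄ {ω : IsoGrp qm} : ω ∈ K₄ ↔ ω ∈ Cβ ∧ ap ω pa = pa := Iff.rfl

theorem pb_of_mem {ω : IsoGrp qm} (h : ω ∈ K₄) : ap ω pb = pb := by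
  rw [← β_pa, ← ap_mul, (mem_Cβ.1 h.1).2, ap_mul, h.2]

theorem el_mem_K₄ (w : Ix) : el w ∈ K₄ := ⟨el_mem_Cβ w, el_pa w⟩

theorem exists_el_K₄ {ω : IsoGrp qm} (h : ω ∈ K₄) : ∃ w, ω = el w :=
  exists_el (mem_Cβ.1 h.1).1 h.2 (pb_of_mem h)

theorem natCard_K₄ : Nat.card K₄ = 36 := by
  rw [← Nat.card_congr (Equiv.ofBijective (fun w : Ix => (⟨el w, el_mem_K₄ w⟩ : K₄))
    ⟨fun u v h => el_inj (Subtype.ext_iff.1 h :), fun k => by
      obtain ⟨w, hw⟩ := exists_el_K₄ k.2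
      exact ⟨w, Subtype.ext hw.symm⟩⟩)]
  simp [Nat.card_eq_fintype_card]

theorem pow_mod_three {k : ℕ} (h : ap (β ^ k) pa = pa) : β ^ k = 1 := by
  rw [← Nat.div_add_mod k 3, pow_add, pow_mul, β_cube, one_pow, one_mul] at h ⊢
  have hlt : k % 3 < 3 := Nat.mod_lt _ (by norm_num)
  interval_cases hk : k % 3
  · rw [pow_zero]
  · rw [pow_one, β_pa] at h
    exact absurd (ofN_inj (by norm_num) (by norm_num) h) (by decide)
  · rw [pow_two, ap_mul, β_pa, β_pb, add_eq_left] at h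
    exact absurd (ofN_inj (by norm_num) (by norm_num) (h.trans ofN_zero.symm)) (by decide)

/-- The power of `β` to remove. -/
noncomputable def kpow (ω : Cβ) : ℕ := (exists_pow ω).choose

/-- The projection as a function. -/
noncomputable def πfun (ω : Cβ) : IsoGrp qm := (β ^ kpow ω)⁻¹ * (ω : IsoGrp qm)

theorem πfun_mem (ω : Cβ) : πfun ω ∈ K₄ :=
  ⟨mul_mem (inv_mem (pow_mem β_mem_Cβ _)) ω.2, (exists_pow ω).choose_spec.1⟩

theorem πfun_unique (ω : Cβ) {k : ℕ} {η : IsoGrp qm} (hη : η ∈ K₄)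
    (h : (ω : IsoGrp qm) = β ^ k * η) : πfun ω = η := by
  have h1 := (πfun_mem ω).2
  obtain ⟨m, hm⟩ : ∃ m : ℕ, (β ^ kpow ω)⁻¹ * β ^ k = β ^ m :=
    ⟨kpow ω * 2 + k, by rw [pow_add, pow_mul', ← pow_mul, inv_mul_eq_iff_eq_mul, ← mul_assoc, ← pow_add,
      show kpow ω + 2 * kpow ω = 3 * kpow ω by ring, pow_mul, β_cube, one_pow, one_mul]⟩
  have he : πfun ω = β ^ m * η := by rw [πfun, h, ← mul_assoc, hm]
  rw [he, ap_mul, hη.2] at h1
  rw [he, pow_mod_three h1, one_mul]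

theorem exists_eq (ω : Cβ) : (ω : IsoGrp qm) = β ^ kpow ω * πfun ω := by
  rw [πfun, mul_inv_cancel_left]

theorem comm_of_mem {η : IsoGrp qm} (h : η ∈ K₄) : η * β = β * η := (mem_Cβ.1 h.1).2

/-- The projection. -/
noncomputable def π : Cβ →* K₄ where
  toFun ω := ⟨πfun ω, πfun_mem ω⟩
  map_one' := Subtype.ext (πfun_unique 1 (k := 0) (one_mem _) (by simp))
  map_mul' ω υ := Subtype.ext (πfun_unique _ (k := kpow ω + kpow υ)
    (mul_mem (πfun_mem ω) (πfun_mem υ)) (by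
      have hc : Commute (πfun ω) (β ^ kpow υ) := Commute.pow_right (comm_of_mem (πfun_mem ω)) _
      rw [Subgroup.coe_mul, exists_eq ω, exists_eq υ, pow_add, mul_assoc, ← mul_assoc (πfun ω), hc.eq]
      simp only [mul_assoc, Subgroup.coe_mul]))

theorem π_of_mem {η : IsoGrp qm} (h : η ∈ K₄) : π ⟨η, h.1⟩ = ⟨η, h⟩ :=
  Subtype.ext (πfun_unique _ (k := 0) h (by simp))

theorem π_surj : Function.Surjective π := fun η => ⟨⟨η, η.2.1⟩, π_of_mem η.2⟩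

theorem π_eq_one {ω : Cβ} : π ω = 1 ↔ ∃ k : ℕ, (ω : IsoGrp qm) = β ^ k := by
  constructor
  · intro h
    refine ⟨kpow ω, ?_⟩
    have h' : πfun ω = 1 := congrArg Subtype.val h
    rw [exists_eq ω, h', mul_one]
  · rintro ⟨k, hk⟩
    exact Subtype.ext (πfun_unique ω (k := k) (one_mem K₄) (by rw [hk]; exact (mul_one _).symm))

/-- The element of a pair. -/
noncomputable def e₄ (p : Fin 3 × Fin 3) : K₄ := ⟨el (p.1, p.2, 0, 0), el_mem_K₄ _⟩

theorem e₄_mul (p q : Fin 3 × Fin 3) : e₄ p * e₄ q = e₄ (p + q) :=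
  Subtype.ext (el_E_mul _ _ _ _)

theorem e₄_zero : e₄ 0 = 1 := Subtype.ext el_zero

theorem e₄_inj : Function.Injective e₄ := fun p q h => by
  have h' := el_inj (congrArg Subtype.val h)
  simp only [Prod.mk.injEq] at h'
  exact Prod.ext h'.1 h'.2.1

/-- The group of order nine. -/
noncomputable def E₄ : Subgroup K₄ where
  carrier := Set.range e₄
  one_mem' := ⟨0, e₄_zero⟩
  mul_mem' := by rintro _ _ ⟨p, rfl⟩ ⟨q, rfl⟩; exact ⟨p + q, (e₄_mul p q).symm⟩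
  inv_mem' := by
    rintro _ ⟨p, rfl⟩
    exact ⟨-p, eq_inv_of_mul_eq_one_left (by rw [e₄_mul, neg_add_cancel, e₄_zero])⟩

theorem natCard_E₄ : Nat.card E₄ = 9 := by
  rw [← Nat.card_congr (Equiv.ofBijective (fun p => (⟨e₄ p, p, rfl⟩ : E₄))
    ⟨fun p q h => e₄_inj (Subtype.ext_iff.1 h :), fun x => by
      obtain ⟨p, hp⟩ := x.2
      exact ⟨p, Subtype.ext hp⟩⟩)]
  simp [Nat.card_eq_fintype_card]

theorem e₄_one_zero : (e₄ (1, 0) : IsoGrp qm) = t₂ := rfl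
theorem e₄_zero_one : (e₄ (0, 1) : IsoGrp qm) = t₃ := rfl

theorem e₄_eq (p : Fin 3 × Fin 3) : e₄ p = e₄ (1, 0) ^ (p.1 : ℕ) * e₄ (0, 1) ^ (p.2 : ℕ) := by
  have hp : ∀ (q : Fin 3 × Fin 3) (n : ℕ), e₄ q ^ n = e₄ (n • q) := by
    intro q n
    induction n with
    | zero => rw [pow_zero, zero_smul, e₄_zero]
    | succ n ih => rw [pow_succ, ih, e₄_mul, succ_nsmul]
  rw [hp, hp, e₄_mul]
  congr 1
  revert p
  decide

instance E₄_normal : E₄.Normal := by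
  have hgen : E₄ = Subgroup.closure {e₄ (1, 0), e₄ (0, 1)} := by
    refine le_antisymm ?_ ((Subgroup.closure_le _).2 (by
      rintro x (rfl | rfl) <;> exact ⟨_, rfl⟩))
    rintro _ ⟨p, rfl⟩
    rw [e₄_eq p]
    exact mul_mem (pow_mem (Subgroup.subset_closure (Set.mem_insert _ _)) _)
      (pow_mem (Subgroup.subset_closure (Set.mem_insert_of_mem _ (Set.mem_singleton _))) _)
  refine ⟨fun x hx g => ?_⟩
  obtain ⟨w, hw⟩ := exists_el_K₄ g.2
  obtain ⟨p, q, h1, h2⟩ := el_norm w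
  have c1 : g * e₄ (1, 0) * g⁻¹ = e₄ p := by
    rw [mul_inv_eq_iff_eq_mul]
    exact Subtype.ext (by rw [Subgroup.coe_mul, Subgroup.coe_mul, hw]; exact h1)
  have c2 : g * e₄ (0, 1) * g⁻¹ = e₄ q := by
    rw [mul_inv_eq_iff_eq_mul]
    exact Subtype.ext (by rw [Subgroup.coe_mul, Subgroup.coe_mul, hw]; exact h2)
  have hle : E₄ ≤ E₄.comap (MulAut.conj g).toMonoidHom := by
    conv_lhs => rw [hgen]
    rw [Subgroup.closure_le]
    rintro y (rfl | rfl)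
    · exact ⟨p, c1.symm⟩
    · exact ⟨q, c2.symm⟩
  exact hle hx

theorem mem_E₄_of_el {g : K₄} {w : Ix} (hg : (g : IsoGrp qm) = el w) (h : w.2.2 = (0, 0)) : g ∈ E₄ := by
  obtain ⟨a, b, c, d⟩ := w
  simp only [Prod.mk.injEq] at h
  obtain ⟨rfl, rfl⟩ := h
  exact ⟨(a, b), Subtype.ext hg.symm⟩

/-- The group of order nine is self-centralising. -/
theorem mem_E₄_of_cent {g : K₄} (h : ∀ e ∈ E₄, g * e = e * g) : g ∈ E₄ := by
  obtain ⟨w, hw⟩ := exists_el_K₄ g.2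
  refine mem_E₄_of_el hw (el_cent ?_ ?_)
  · rw [← hw]; exact congrArg Subtype.val (h (e₄ (1, 0)) ⟨_, rfl⟩)
  · rw [← hw]; exact congrArg Subtype.val (h (e₄ (0, 1)) ⟨_, rfl⟩)

/-- Elements of order dividing nine lie in it. -/
theorem mem_E₄_of_nine {g : K₄} (h : g ^ 9 = 1) : g ∈ E₄ := by
  obtain ⟨w, hw⟩ := exists_el_K₄ g.2
  exact mem_E₄_of_el hw (el_nine (by rw [← hw]; exact congrArg Subtype.val h))

/-- Elements of odd order lie in it. -/
theorem mem_E₄_of_odd {g : K₄} (h : Odd (orderOf g)) : g ∈ E₄ := by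
  refine mem_E₄_of_nine (orderOf_dvd_iff_pow_eq_one.1 ?_)
  have h36 : orderOf g ∣ 4 * 9 := (orderOf_dvd_natCard g).trans (dvd_of_eq natCard_K₄)
  exact (Nat.Coprime.pow_right 2 h.coprime_two_right).dvd_of_dvd_mul_left h36

end Cfsg.Agent.SuzThree
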