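/-
A copy of `SL(2,3)` by generators and relations is the image of an embedding of `SL(2,3)` (helper18).

* `fval` : the value of a normal form word
* `fhom`, `fhom_injective`, `fhom_range_le` : the embedding
-/
import Cfsg.Agent.Lib.UFourThreeType.Base

set_option autoImplicit false

namespace Cfsg.Agent.SuzThree

open Cfsg.Agent.UFourThreeType

/-- Indices of normal forms. -/
abbrev W3 : Type := Fin 4 × Fin 2 × Fin 3

/-- Left multiplication by `si` on indices. -/
def stI (p : W3) : W3 := (p.1 + 1, p.2)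

/-- Left multiplication by `sj` on indices. -/
def stJ (p : W3) : W3 :=
  if p.2.1 = 0 then (-p.1, 1, p.2.2) else (-p.1 + 2, 0, p.2.2)

/-- Left multiplication by `sc` on indices. -/
def stC (p : W3) : W3 :=
  (if p.2.1 = 0 then ![((0, 0) : Fin 4 × Fin 2), (0, 1), (2, 0), (2, 1)] p.1
    else ![((1, 1) : Fin 4 × Fin 2), (1, 0), (3, 1), (3, 0)] p.1, p.2.2 + 1) |> fun q => (q.1.1, q.1.2, q.2)

theorem stI_eq : ∀ p, si * sword p = sword (stI p) := by decide +kernel
theorem stJ_eq : ∀ p, sj * sword p = sword (stJ p) := by decide +kernel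
theorem stC_eq : ∀ p, sc * sword p = sword (stC p) := by decide +kernel
theorem sword_inj : Function.Injective sword := by decide +kernel

theorem center_SLT : ∀ A : SLT, A * si = si * A → A * sj = sj * A → A = 1 ∨ A = si * si := by
  decide +kernel

theorem sisi_of_ne : ∀ A : SLT, A ≠ 1 → A = si * si ∨ A * A = si * si ∨ A * A * A = si * si ∨
    (A * si * A⁻¹ * si⁻¹) * (A * si * A⁻¹ * si⁻¹) = si * si ∨
    (A * sj * A⁻¹ * sj⁻¹) * (A * sj * A⁻¹ * sj⁻¹) = si * si := by
  decide +kernel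

theorem gen_three : ∀ A : SLT, ∃ a b c : Fin 3,
    A = sc ^ (a : ℕ) * (si * sc * si⁻¹) ^ (b : ℕ) * sc ^ (c : ℕ) ∨
    A = (si * sc * si⁻¹) ^ (a : ℕ) * sc ^ (b : ℕ) * (si * sc * si⁻¹) ^ (c : ℕ) ∨
    A = sc ^ (a : ℕ) * (si * sc * si⁻¹) ^ (b : ℕ) * (sj * sc * sj⁻¹) ^ (c : ℕ) := by
  decide +kernel

variable {G : Type*} [Group G] {z : G} (F : Factor z)

/-- The value of a normal form. -/
def fval (p : W3) : G := F.i ^ (p.1 : ℕ) * F.j ^ (p.2.1 : ℕ) * F.c ^ (p.2.2 : ℕ)

theorem fval_pow (x : G) (n : ℕ) [NeZero n] (hx : x ^ n = 1) (a b : Fin n) :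
    x ^ ((a + b : Fin n) : ℕ) = x ^ (a : ℕ) * x ^ (b : ℕ) := by
  rw [← pow_add, Fin.val_add, ← pow_eq_pow_mod _ hx]

theorem pow_four_i (hz2 : z * z = 1) : F.i ^ 4 = 1 := by
  rw [show (4 : ℕ) = 2 + 2 from rfl, pow_add, pow_two, F.hii, hz2]

theorem fval_stI (hz2 : z * z = 1) (p : W3) : F.i * fval F p = fval F (stI p) := by
  obtain ⟨a, b, m⟩ := p
  simp only [fval, stI]
  rw [fval_pow F.i 4 (pow_four_i F hz2) a 1, ← (Commute.refl F.i).pow_pow ((1 : Fin 4) : ℕ) (a : ℕ)]
  simp [mul_assoc]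

theorem j_i_pow (hz2 : z * z = 1) (a : Fin 4) : F.j * F.i ^ (a : ℕ) = F.i ^ ((-a : Fin 4) : ℕ) * F.j := by
  have hi : F.i ^ 3 = F.i * z := by rw [pow_succ', pow_two, F.hii]
  have h1 : F.j * F.i = F.i ^ 3 * F.j := by
    rw [hi, F.hji, mul_assoc, mul_assoc, F.j_z.eq]
  have hn : ∀ n : ℕ, F.j * F.i ^ n = F.i ^ (3 * n) * F.j := by
    intro n
    induction n with
    | zero => simp
    | succ n ih =>
      rw [pow_succ, ← mul_assoc, ih, mul_assoc, h1, ← mul_assoc, ← pow_add]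
      rfl
  rw [hn, pow_eq_pow_mod _ (pow_four_i F hz2)]
  congr 2
  revert a
  decide

theorem fval_stJ (hz2 : z * z = 1) (p : W3) : F.j * fval F p = fval F (stJ p) := by
  obtain ⟨a, b, m⟩ := p
  have h := j_i_pow F hz2 a
  fin_cases b
  · simp only [fval, stJ, Fin.isValue, Fin.zero_eta, if_true, Fin.val_zero, pow_zero, mul_one,
      Fin.val_one, pow_one]
    rw [← mul_assoc, h]
  · simp only [fval, stJ, Fin.isValue, Fin.mk_one, one_ne_zero, if_false, Fin.val_zero, pow_zero,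
      mul_one, Fin.val_one, pow_one]
    have h2 : F.i ^ ((2 : Fin 4) : ℕ) = z := by
      rw [show ((2 : Fin 4) : ℕ) = 2 from rfl, pow_two, F.hii]
    rw [fval_pow F.i 4 (pow_four_i F hz2), h2, ← mul_assoc, ← mul_assoc, h, mul_assoc _ F.j F.j, F.hjj]

theorem c_pow (hz2 : z * z = 1) (a : ℕ) : F.c * F.i ^ a = F.j ^ a * F.c := by
  induction a with
  | zero => simp
  | succ n ih => rw [pow_succ, ← mul_assoc, ih, mul_assoc, F.hci, ← mul_assoc, ← pow_succ]

theorem fval_stC (hz2 : z * z = 1) (p : W3) : F.c * fval F p = fval F (stC p) := by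
  obtain ⟨a, b, m⟩ := p
  have hc : F.c ^ ((m + 1 : Fin 3) : ℕ) = F.c * F.c ^ (m : ℕ) := by
    rw [add_comm, fval_pow F.c 3 (by rw [pow_succ, pow_two, F.hc]) 1 m, Fin.val_one, pow_one]
  have e : F.c * (F.i ^ (a : ℕ) * F.j ^ (b : ℕ) * F.c ^ (m : ℕ)) =
      F.j ^ (a : ℕ) * (F.i * F.j) ^ (b : ℕ) * (F.c * F.c ^ (m : ℕ)) := by
    rw [← mul_assoc, ← mul_assoc, c_pow F hz2, mul_assoc (F.j ^ (a : ℕ))]
    fin_cases b
    · simp [mul_assoc]
    · simp only [Fin.isValue, Fin.mk_one, Fin.val_one, pow_one]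
      rw [F.hcj]
      simp [mul_assoc]
  show F.c * (F.i ^ (a : ℕ) * F.j ^ (b : ℕ) * F.c ^ (m : ℕ)) = _
  rw [e, ← hc]
  have ii : F.i * F.i = z := F.hii
  have jj : F.j * F.j = z := F.hjj
  have ii' : ∀ w, F.i * (F.i * w) = z * w := fun w => by rw [← mul_assoc, ii]
  have jj' : ∀ w, F.j * (F.j * w) = z * w := fun w => by rw [← mul_assoc, jj]
  have zi : F.i * z = z * F.i := F.i_z.eq
  have zj : F.j * z = z * F.j := F.j_z.eq
  have zi' : ∀ w, F.i * (z * w) = z * (F.i * w) := fun w => by rw [← mul_assoc, zi, mul_assoc]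
  have zj' : ∀ w, F.j * (z * w) = z * (F.j * w) := fun w => by rw [← mul_assoc, zj, mul_assoc]
  have zz' : ∀ w, z * (z * w) = w := fun w => by rw [← mul_assoc, hz2, one_mul]
  have ji : F.j * F.i = z * (F.i * F.j) := by rw [F.hji, mul_assoc, zj, zi']
  have ji' : ∀ w, F.j * (F.i * w) = z * (F.i * (F.j * w)) := fun w => by
    rw [← mul_assoc, ji, mul_assoc, mul_assoc]
  fin_cases a <;> fin_cases b <;>
    simp [fval, stC, pow_succ, mul_assoc, ii, jj, ii', jj', zi, zj, zi', zj', zz', ji, ji', hz2]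

/-- The map of `SL(2,3)`. -/
noncomputable def ffun (A : SLT) : G := fval F (sword_surjective A).choose

theorem ffun_sword (p : W3) : ffun F (sword p) = fval F p :=
  congrArg (fval F) (sword_inj (sword_surjective (sword p)).choose_spec)

theorem ffun_step (hz2 : z * z = 1) (A : SLT) :
    ffun F (si * A) = F.i * ffun F A ∧ ffun F (sj * A) = F.j * ffun F A ∧
      ffun F (sc * A) = F.c * ffun F A := by
  obtain ⟨p, rfl⟩ := sword_surjective A
  rw [stI_eq, stJ_eq, stC_eq, ffun_sword, ffun_sword, ffun_sword, ffun_sword, fval_stI F hz2,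
    fval_stJ F hz2, fval_stC F hz2]
  exact ⟨rfl, rfl, rfl⟩

theorem ffun_pow (hz2 : z * z = 1) (n : ℕ) (A : SLT) :
    ffun F (si ^ n * A) = F.i ^ n * ffun F A ∧ ffun F (sj ^ n * A) = F.j ^ n * ffun F A ∧
      ffun F (sc ^ n * A) = F.c ^ n * ffun F A := by
  induction n generalizing A with
  | zero => simp
  | succ n ih =>
    obtain ⟨h1, h2, h3⟩ := ffun_step F hz2 A
    refine ⟨?_, ?_, ?_⟩
    · rw [pow_succ, mul_assoc, (ih _).1, h1, pow_succ, mul_assoc]
    · rw [pow_succ, mul_assoc, (ih _).2.1, h2, pow_succ, mul_assoc]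
    · rw [pow_succ, mul_assoc, (ih _).2.2, h3, pow_succ, mul_assoc]

/-- The homomorphism. -/
noncomputable def fhom (hz2 : z * z = 1) : SLT →* G :=
  MonoidHom.mk' (ffun F) fun A B => by
    obtain ⟨⟨a, b, m⟩, rfl⟩ := sword_surjective A
    rw [sword, mul_assoc, mul_assoc, (ffun_pow F hz2 _ _).1, (ffun_pow F hz2 _ _).2.1,
      (ffun_pow F hz2 _ _).2.2, ← sword, ffun_sword, fval]
    simp [mul_assoc]

theorem fhom_gen (hz2 : z * z = 1) :
    fhom F hz2 si = F.i ∧ fhom F hz2 sj = F.j ∧ fhom F hz2 sc = F.c := by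
  have h1 : si = sword (1, 0, 0) := by decide +kernel
  have h2 : sj = sword (0, 1, 0) := by decide +kernel
  have h3 : sc = sword (0, 0, 1) := by decide +kernel
  refine ⟨?_, ?_, ?_⟩
  · show ffun F si = _; rw [h1, ffun_sword]; simp [fval]
  · show ffun F sj = _; rw [h2, ffun_sword]; simp [fval]
  · show ffun F sc = _; rw [h3, ffun_sword]; simp [fval]

theorem fhom_sisi (hz2 : z * z = 1) : fhom F hz2 (si * si) = z := by
  rw [map_mul, (fhom_gen F hz2).1, F.hii]

theorem fhom_apply (hz2 : z * z = 1) (p : W3) : fhom F hz2 (sword p) = fval F p := ffun_sword F p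

/-- A homomorphism of `SL(2,3)` not killing the central involution is injective. -/
theorem injective_of_sisi {L : Type*} [Group L] (f : SLT →* L) (h : f (si * si) ≠ 1) :
    Function.Injective f := by
  refine (injective_iff_map_eq_one f).2 fun A hA => ?_
  by_contra hne
  rcases sisi_of_ne A hne with e | e | e | e | e <;> apply h <;> rw [← e] <;>
    simp [hA]

end Cfsg.Agent.SuzThree
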