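/-
Elements of order three of a group of Suzuki type fixing a four-dimensional part of the radical
(helper18).

* `Thr`, `exists_conj` : the condition; such an element acts as a conjugate of `β`
* `thr_of_card`, `card_comm` : the condition through the order of the commutator with the radical
-/
import Cfsg.Agent.Lib.SuzThree.Centre
import Cfsg.Agent.Lib.SuzType.Frame

set_option autoImplicit false
open scoped commutatorElement

namespace Cfsg.Agent.SuzThree

open Cfsg.Agent.SuzType Cfsg.Agent.Orth Cfsg.Agent.LargeExtraspecial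
open QuadraticMap (polar)

variable {G : Type*} [Group G]

/-- An element of order dividing three fixing 16 vectors. -/
structure Thr (T : Co G) (x : G) : Prop where
  hz : x * T.z = T.z * x
  cube : x ^ 3 = 1
  fix : Nat.card {v : V6 // ap (T.ρ x) v = v} = 16

theorem ρ_pow (T : Co G) {x : G} (hx : x * T.z = T.z * x) (k : ℕ) : T.ρ (x ^ k) = T.ρ x ^ k := by
  induction k with
  | zero => rw [pow_zero, pow_zero, T.ρ_one]
  | succ n ih => rw [pow_succ, T.ρ_mul _ _ (Commute.pow_left hx n).eq hx, ih, pow_succ]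

/-- An element of odd order three commutes with what its image fixes. -/
theorem fix_of_three {T : Co G} {g : G} (hg : g * T.z = T.z * g) (h3 : g ^ 3 = 1) {x : G}
    (hx : x ∈ T.Q) (hfix : ap (T.ρ g) (T.c x) = T.c x) : g * x = x * g := by
  rcases T.c_eq hx (T.data.norm g hg x hx) (by rw [T.ρ_conj g hg x hx, hfix]) with h | h
  · exact mul_inv_eq_iff_eq_mul.mp h
  · exfalso
    have hgz : g * T.z * g⁻¹ = T.z := mul_inv_eq_iff_eq_mul.mpr hg
    have h2 : g * (g * x * g⁻¹) * g⁻¹ = x := by
      rw [h, show g * (x * T.z) * g⁻¹ = g * x * g⁻¹ * (g * T.z * g⁻¹) by group, hgz, h, mul_assoc,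
        T.z_sq, mul_one]
    have h1 : g ^ 3 * x * (g ^ 3)⁻¹ = x * T.z := by
      rw [show g ^ 3 * x * (g ^ 3)⁻¹ = g * (g * (g * x * g⁻¹) * g⁻¹) * g⁻¹ by
        simp only [pow_succ, pow_zero, one_mul, mul_inv_rev, mul_assoc], h2, h]
    rw [h3, one_mul, inv_one, mul_one] at h1
    exact T.z_ne (mul_eq_left.1 h1.symm)

theorem comm_iff_fix {T : Co G} {g : G} (hg : g * T.z = T.z * g) (h3 : g ^ 3 = 1) {x : G}
    (hx : x ∈ T.Q) : g * x = x * g ↔ ap (T.ρ g) (T.c x) = T.c x :=
  ⟨fun h => by rw [← T.ρ_conj g hg x hx, h, mul_inv_cancel_right], fix_of_three hg h3 hx⟩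

/-- The number of elements of the radical over a set of vectors. -/
theorem card_over (T : Co G) (p : V6 → Prop) :
    Nat.card {x : G // x ∈ T.Q ∧ p (T.c x)} = 2 * Nat.card {w : V6 // p w} := by
  choose l hl hlc using T.c_surj
  let f : ZMod 2 × {w : V6 // p w} → {x : G // x ∈ T.Q ∧ p (T.c x)} := fun a =>
    ⟨l a.2.1 * pw T.z a.1, mul_mem (hl _) (pw_mem T.data.z_mem _), by
      rw [T.c_mul _ (hl _) _ (pw_mem T.data.z_mem _), hlc]
      rcases z2 a.1 with h | h <;> simp [h, T.c_one, T.c_z, a.2.2]⟩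
  have hf : Function.Bijective f := by
    constructor
    · rintro ⟨i, w, hw⟩ ⟨j, u, hu⟩ h
      have h' : l w * pw T.z i = l u * pw T.z j := congrArg Subtype.val h
      have hc := congrArg T.c h'
      have cz : ∀ i, T.c (pw T.z i) = 0 := fun i => by
        rcases z2 i with rfl | rfl <;> simp [T.c_one, T.c_z]
      rw [T.c_mul _ (hl _) _ (pw_mem T.data.z_mem _), T.c_mul _ (hl _) _ (pw_mem T.data.z_mem _),
        hlc, hlc, cz, cz, add_zero, add_zero] at hc
      subst hc
      rw [pw_inj T.z_ne (mul_left_cancel h')]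
    · rintro ⟨x, hx, hp⟩
      rcases T.c_eq (hl _) hx (hlc (T.c x)) with h | h
      · exact ⟨⟨0, T.c x, hp⟩, Subtype.ext (by simpa [f] using h.symm)⟩
      · exact ⟨⟨1, T.c x, hp⟩, Subtype.ext (by simpa [f] using h.symm)⟩
  rw [← Nat.card_congr (Equiv.ofBijective f hf), Nat.card_prod, Nat.card_zmod]

theorem card_fix_iff (T : Co G) {g : G} (hg : g * T.z = T.z * g) (h3 : g ^ 3 = 1) :
    Nat.card ↥(T.Q ⊓ Subgroup.centralizer {g}) = 2 * Nat.card {v : V6 // ap (T.ρ g) v = v} := by
  rw [← card_over T fun v => ap (T.ρ g) v = v]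
  refine Nat.card_congr (Equiv.subtypeEquivRight fun x => ?_)
  rw [Subgroup.mem_inf, Subgroup.mem_centralizer_singleton_iff]
  exact and_congr_right fun hx => eq_comm.trans (comm_iff_fix hg h3 hx)

theorem card_vec : Nat.card V6 = 64 := by
  rw [Nat.card_eq_fintype_card, Fintype.card_fun, ZMod.card, Fintype.card_sum, Fintype.card_sum, Fintype.card_fin]
  norm_num

theorem Thr.ne_one {T : Co G} {x : G} (h : Thr T x) : x ≠ 1 := by
  rintro rfl
  have h16 := h.fix
  rw [Nat.card_congr (Equiv.subtypeUnivEquiv fun v => by rw [T.ρ_one, ap_one]), card_vec] at h16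
  omega

theorem Thr.orderOf_eq {T : Co G} {x : G} (h : Thr T x) : orderOf x = 3 := by
  haveI : Fact (Nat.Prime 3) := ⟨Nat.prime_three⟩
  exact orderOf_eq_prime h.cube h.ne_one

/-- The action is conjugate to `β`. -/
theorem exists_conj_of_card {g : IsoGrp qm} (h3 : g ^ 3 = 1)
    (h16 : Nat.card {v : V6 // ap g v = v} = 16) :
    ∃ ω ∈ Cfsg.Omega (ZMod 2) ⇑qm, ω * g * ω⁻¹ = β := by
  classical
  let f : V6 →ₗ[ZMod 2] V6 := ap g + LinearMap.id
  have hf : ∀ v, f v = ap g v + v := fun v => rfl
  have hker : ∀ v, v ∈ LinearMap.ker f ↔ ap g v = v := fun v => by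
    rw [LinearMap.mem_ker, hf, ← sub_eq_zero (a := ap g v), sub_eq_add_neg, ZModModule.neg_eq_self]
  have hr : Nat.card (LinearMap.range f) = 4 := by
    have h1 := Submodule.card_eq_card_quotient_mul_card (LinearMap.ker f)
    rw [Nat.card_congr f.quotKerEquivRange.toEquiv, card_vec,
      Nat.card_congr (Equiv.subtypeEquivRight hker), h16] at h1
    omega
  have g3 : ∀ v, ap g (ap g (ap g v)) = v := fun v => by
    rw [← ap_mul, ← ap_mul, show g * g * g = g ^ 3 by rw [pow_succ, pow_two], h3, ap_one]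
  have hfr : ∀ w ∈ LinearMap.range f, ap g w = w → w = 0 := by
    rintro _ ⟨u, rfl⟩ hw
    rw [hf, map_add] at hw
    have h2 : ap g (ap g u) = u := by
      have := congrArg (fun t => t + ap g u) hw
      simpa [add_assoc, ← add_assoc (ap g u), ZModModule.add_self, add_comm u] using this
    have h1 : ap g u = u := by
      have := congrArg (ap g) h2
      rw [g3] at this
      exact this.symm
    rw [hf, h1, ZModModule.add_self]
  obtain ⟨a, har, ha0⟩ : ∃ a ∈ LinearMap.range f, a ≠ 0 := by
    by_contra! h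
    have : LinearMap.range f = ⊥ := (Submodule.eq_bot_iff _).2 h
    rw [this] at hr
    simp at hr
  have hgr : ∀ w ∈ LinearMap.range f, ap g w ∈ LinearMap.range f := by
    rintro _ ⟨u, rfl⟩
    exact ⟨ap g u, by rw [hf, hf, map_add]⟩
  have hb := hgr a har
  have hc := hgr _ hb
  set b := ap g a with hbdef
  set c := ap g b with hcdef
  have hca : ap g c = a := g3 a
  have hab : a ≠ b := fun e => ha0 (hfr a har e.symm)
  have hb0 : b ≠ 0 := fun e => ha0 (ap_inj g (by rw [← hbdef, e, map_zero]))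
  have hc0 : c ≠ 0 := fun e => hb0 (ap_inj g (by rw [← hcdef, e, map_zero]))
  have hbc : b ≠ c := fun e => hab (ap_inj g (by rw [← hbdef, ← hcdef]; exact e))
  have hac : a ≠ c := fun e => hab (by
    have h' : ap g a = a := by conv_lhs => rw [e]; exact hca
    exact h'.symm)
  have hall : ∀ w ∈ LinearMap.range f, w = 0 ∨ w = a ∨ w = b ∨ w = c := by
    intro w hw
    by_contra! hne
    obtain ⟨h0, h1, h2, h3⟩ := hne
    have hnd : ({0, a, b, c, w} : Finset V6).card = 5 := by
      simp [Ne.symm ha0, Ne.symm hb0, Ne.symm hc0, Ne.symm h0, hab, hac, hbc, Ne.symm h1, Ne.symm h2,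
        Ne.symm h3]
    have h5 : ({0, a, b, c, w} : Finset V6).card ≤ Nat.card (LinearMap.range f) := by
      rw [← Nat.card_eq_finsetCard]
      refine Nat.card_le_card_of_injective (fun v => ⟨v.1, ?_⟩) fun u v e => Subtype.ext (Subtype.ext_iff.1 e :)
      have hv := v.2
      simp only [Finset.mem_insert, Finset.mem_singleton] at hv
      rcases hv with e | e | e | e | e <;> rw [e]
      exacts [zero_mem _, har, hb, hc, hw]
    omega
  have hsum : a + b = c := by
    rcases hall _ (add_mem har hb) with e | e | e | e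
    · exact absurd (by rw [← sub_eq_zero, sub_eq_add_neg, ZModModule.neg_eq_self]; exact e) hab
    · exact absurd (add_eq_left.1 e) hb0
    · exact absurd (add_eq_right.1 e) ha0
    · exact e
  have hperp : ∀ w ∈ LinearMap.range f, ∀ v, ap g v = v → polar ⇑qm w v = 0 := by
    rintro _ ⟨u, rfl⟩ v hv
    rw [hf, pl_add_left]
    conv_lhs => arg 1; rw [← hv]
    rw [polar_ap, ZModModule.add_self]
  have hdec : ∀ v, ∃ r ∈ LinearMap.range f, ap g (v + r) = v + r := by
    intro v
    refine ⟨f (ap g v), ⟨_, rfl⟩, ?_⟩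
    rw [hf, map_add, map_add, g3]
    abel
  have hq : qm c = qm a := by rw [hcdef, hbdef, Q_ap, Q_ap]
  have hpab : polar ⇑qm a b = qm a := by
    rw [← hsum, Q_add, show qm b = qm a by rw [hbdef, Q_ap], ZModModule.add_self, zero_add] at hq
    exact hq
  have haa : polar ⇑qm a a = 0 := by rw [pl_self, show (2 : ZMod 2) = 0 from rfl, zero_mul]
  have hqa : qm a = 1 := by
    have two : ∀ t : ZMod 2, t ≠ 0 → t = 1 := by decide
    refine two _ fun h0 => ha0 (nd_qm.1 _ fun v => ?_)
    show polar ⇑qm a v = 0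
    obtain ⟨r, hr', hfix⟩ := hdec v
    have hv : v = (v + r) + r := by rw [add_assoc, ZModModule.add_self, add_zero]
    rw [hv, pl_add_right, hperp a har _ hfix, zero_add]
    rcases hall r hr' with rfl | rfl | rfl | rfl
    · exact pl_zero_right _ _
    · exact haa
    · rw [hpab, h0]
    · rw [← hsum, pl_add_right, haa, hpab, h0, add_zero]
  rw [hqa] at hpab
  refine exists_conj_β hqa hpab hsum.symm fun x hxa hxb => ?_
  obtain ⟨r, hr', hfix⟩ := hdec x
  have hra : polar ⇑qm r a = 0 := by
    have h1 := hperp a har _ hfix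
    rwa [pl_comm, pl_add_left, hxa, zero_add] at h1
  have hrb : polar ⇑qm r b = 0 := by
    have h1 := hperp b hb _ hfix
    rwa [pl_comm, pl_add_left, hxb, zero_add] at h1
  rcases hall r hr' with rfl | rfl | rfl | rfl
  · simpa using hfix
  · rw [hpab] at hrb; exact absurd hrb one_ne_zero
  · rw [pl_comm, hpab] at hra; exact absurd hra one_ne_zero
  · rw [← hsum, pl_add_left, haa, zero_add, pl_comm, hpab] at hra; exact absurd hra one_ne_zero

theorem Thr.exists_conj {T : Co G} {x : G} (h : Thr T x) :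
    ∃ ω ∈ Cfsg.Omega (ZMod 2) ⇑qm, ω * T.ρ x * ω⁻¹ = β :=
  exists_conj_of_card (by rw [← ρ_pow T h.hz, h.cube, T.ρ_one]) h.fix

/-- The product formula for commuting subgroups. -/
theorem card_mul_of_commute {A B : Subgroup G} (h : ∀ a ∈ A, ∀ b ∈ B, a * b = b * a) :
    Nat.card A * Nat.card B = Nat.card ↥(A ⊔ B) * Nat.card ↥(A ⊓ B) := by
  let f : A × B →* G := MonoidHom.noncommCoprod A.subtype B.subtype fun a b => h a a.2 b b.2
  have hf : ∀ p : A × B, f p = (p.1 : G) * p.2 := fun p => rfl
  have hrange : f.range = A ⊔ B := by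
    refine le_antisymm ?_ (sup_le (fun a ha => ⟨(⟨a, ha⟩, 1), (hf _).trans (mul_one a)⟩)
      (fun b hb => ⟨(1, ⟨b, hb⟩), (hf _).trans (one_mul b)⟩))
    rintro _ ⟨p, rfl⟩
    exact hf p ▸ Subgroup.mul_mem_sup p.1.2 p.2.2
  let e : f.ker ≃ ↥(A ⊓ B) :=
    { toFun := fun p => ⟨(p.1.1 : G), p.1.1.2, by
        have h1 : (p.1.1 : G) * p.1.2 = 1 := (hf p.1).symm.trans p.2
        rw [eq_inv_of_mul_eq_one_left h1]; exact B.inv_mem p.1.2.2⟩
      invFun := fun a => ⟨(⟨a, a.2.1⟩, ⟨(a : G)⁻¹, inv_mem a.2.2⟩),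
        MonoidHom.mem_ker.2 ((hf _).trans (mul_inv_cancel _))⟩
      left_inv := fun p => by
        refine Subtype.ext (Prod.ext (Subtype.ext rfl) (Subtype.ext ?_))
        exact (eq_inv_of_mul_eq_one_right ((hf p.1).symm.trans p.2)).symm
      right_inv := fun a => rfl }
  rw [← Nat.card_prod, ← f.ker.card_mul_index, Subgroup.index_ker, hrange, Nat.card_congr e, mul_comm]

/-- The orders in the decomposition of the radical under an element of order three. -/
theorem card_mul_comm [Finite G] (T : Co G) {g : G} (hg : g * T.z = T.z * g) (h3 : orderOf g = 3) :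
    Nat.card ↥(T.Q ⊓ Subgroup.centralizer {g}) * Nat.card ↥⁅T.Q, Subgroup.zpowers g⁆ = 2 ^ 8 := by
  have hp : IsPGroup 2 T.Q := IsPGroup.of_card T.card_Q
  have hnorm : Subgroup.zpowers g ≤ Subgroup.normalizer (T.Q : Set G) :=
    Subgroup.zpowers_le.2 (Subgroup.mem_normalizer_fintype fun q hq => T.data.norm g hg q hq)
  have hodd : Odd (Nat.card (Subgroup.zpowers g)) := by rw [Nat.card_zpowers, h3]; decide
  have hne : Subgroup.zpowers g ≠ ⊥ := by
    rw [Ne, Subgroup.zpowers_eq_bot]; rintro rfl; simp at h3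
  obtain ⟨hsup, hcom, hB, -⟩ := odd_decomposition T.data hp hnorm hodd hne
  rw [Subgroup.zpowers_eq_closure, Subgroup.centralizer_closure] at hsup hcom
  rw [Subgroup.zpowers_eq_closure] at hB
  rw [Subgroup.zpowers_eq_closure]
  set A := T.Q ⊓ Subgroup.centralizer {g}
  set B := ⁅T.Q, Subgroup.closure {g}⁆
  have hBQ : B ≤ T.Q := by rw [← hsup]; exact le_sup_right
  have hAB : A ⊓ B = Subgroup.zpowers T.z := by
    refine le_antisymm (fun x hx => ?_) (Subgroup.zpowers_le.2 ⟨⟨T.data.z_mem,
      Subgroup.mem_centralizer_singleton_iff.2 hg.symm⟩, ?_⟩)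
    · rcases T.data.cent x (fun q hq => by
        rw [← hsup, Subgroup.sup_eq_closure] at hq
        induction hq using Subgroup.closure_induction with
        | mem y hy =>
          rcases hy with hy | hy
          exacts [hcom y hy x hx.2, (hcom x hx.1 y hy).symm]
        | one => simp
        | mul a b _ _ ha hb => exact (Commute.mul_left ha hb).eq
        | inv a _ ha => exact (Commute.inv_left ha).eq) with e | e
      · rw [e]; exact one_mem _
      · rw [e]; exact Subgroup.mem_zpowers _
    · by_contra hzB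
      haveI : Fact (Nat.Prime 2) := ⟨Nat.prime_two⟩
      have hab : ∀ a b : B, a * b = b * a := by
        intro a b
        refine commutatorElement_eq_one_iff_mul_comm.1 (Subtype.ext ?_)
        rcases T.data.comm a (hBQ a.2) b (hBQ b.2) with e | e
        · exact e
        · exact absurd (e ▸ (⁅a, b⁆).2) hzB
      have hbot : _root_.commutator B = ⊥ := by
        rw [_root_.commutator_eq_bot_iff_center_eq_top, Subgroup.eq_top_iff']
        exact fun a => Subgroup.mem_center_iff.2 fun b => hab b a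
      have h2 := hB.2
      rw [← hB.1.2.2, hbot, Subgroup.card_bot] at h2
      omega
  have h := card_mul_of_commute hcom
  rw [hsup, hAB, T.card_Q, Nat.card_zpowers, orderOf_eq_prime (by rw [pow_two, T.z_sq]) T.z_ne] at h
  exact h

/-- The condition from the order of the commutator. -/
theorem thr_of_card [Finite G] (T : Co G) {g : G} (hg : g * T.z = T.z * g) (h3 : orderOf g = 3)
    (h8 : Nat.card ↥⁅T.Q, Subgroup.zpowers g⁆ = 8) : Thr T g := by
  have hc : g ^ 3 = 1 := by rw [← h3, pow_orderOf_eq_one]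
  have h := card_mul_comm T hg h3
  rw [h8, card_fix_iff T hg hc] at h
  exact ⟨hg, hc, by omega⟩

theorem Thr.card_comm [Finite G] {T : Co G} {x : G} (h : Thr T x) :
    Nat.card ↥⁅T.Q, Subgroup.zpowers x⁆ = 8 := by
  have h' := card_mul_comm T h.hz h.orderOf_eq
  rw [card_fix_iff T h.hz h.cube, h.fix] at h'
  omega

theorem Thr.comm_nonabelian [Finite G] {T : Co G} {x : G} (h : Thr T x) :
    Cfsg.IsExtraspecial 2 ↥⁅T.Q, Subgroup.zpowers x⁆ := by
  refine (odd_decomposition T.data (IsPGroup.of_card T.card_Q)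
    (Subgroup.zpowers_le.2 (Subgroup.mem_normalizer_fintype fun q hq => T.data.norm x h.hz q hq))
    (by rw [Nat.card_zpowers, h.orderOf_eq]; decide) ?_).2.2.1
  rw [Ne, Subgroup.zpowers_eq_bot]; exact h.ne_one

end Cfsg.Agent.SuzThree
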