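/-
Two commuting copies of `SL(2,3)` in `C(z, x)` (helper18).

* `Std.exists_lift` : elements of order three over the stabiliser of the plane
* `Std.Two`, `Std.exists_two` : the two copies; `Two.exists_q` : their quaternion parts give the fixed part of the radical
-/
import Cfsg.Agent.Lib.SuzThree.Std
import Cfsg.Agent.Lib.SuzThree.Factor
import Cfsg.Agent.Lib.UFourThreeType.Conj

set_option autoImplicit false
open scoped commutatorElement

namespace Cfsg.Agent.SuzThree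

open Cfsg.Agent.SuzType Cfsg.Agent.Orth Cfsg.Agent.LargeExtraspecial
open Cfsg.Agent.UFourThreeType (Factor Frame qbit qm qz)
open QuadraticMap (polar)

variable {G : Type*} [Group G]

theorem t₂t₃ : t₂ * t₃ = t₃ * t₂ := by rw [t₂, t₃, el_E_mul, el_E_mul, add_comm (1 : Fin 3)]

theorem t₂_cube : t₂ ^ 3 = 1 := by
  rw [t₂, pow_succ, pow_two, el_E_mul, el_E_mul]; exact el_zero

theorem t₃_cube : t₃ ^ 3 = 1 := by
  rw [t₃, pow_succ, pow_two, el_E_mul, el_E_mul]; exact el_zero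

theorem Cfsg_qm_code (x : V6) (h : ∀ d ∈ basN, polar ⇑SuzType.qm x (ofN d) = 0) : x = 0 := by
  obtain ⟨n, hn, rfl⟩ : ∃ n < 64, ofN n = x := ⟨toN x, toN_lt x, ofN_toN x⟩
  have tab : ∀ n < 64, (∀ d ∈ basN, pN n d = false) → n = 0 := by decide +kernel
  rw [tab n hn fun d hd => b2_zero _ (by rw [← polar_ofN]; exact h d hd), ofN_zero]

/-- The vector of a code. -/
def codeV (x : Fin 32) : ℕ :=
  (if qbit x 1 = 1 then 3 else 0) ^^^ (if qbit x 2 = 1 then 13 else 0) ^^^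
    ((if qbit x 3 = 1 then 12 else 0) ^^^ (if qbit x 4 = 1 then 7 else 0))

theorem codeV_tab : ∀ n < 64, pN n 16 = false → pN n 32 = false → ∃ x : Fin 32, codeV x = n := by
  decide +kernel

theorem c_pow_bit (T : Co G) {g : G} (hg : g ∈ T.Q) {a : ℕ} (hc : T.c g = ofN a) {n : ℕ} (hn : n < 2) :
    T.c (g ^ n) = ofN (if n = 1 then a else 0) := by
  interval_cases n
  · rw [pow_zero, T.c_one, if_neg (by norm_num), ofN_zero]
  · rw [pow_one, if_pos rfl, hc]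

theorem commute_of_perp (T : Co G) {p q : G} (hp : p ∈ T.Q) (hq : q ∈ T.Q) {a b : ℕ}
    (ha : T.c p = ofN a) (hb : T.c q = ofN b) (h : pN a b = false) : Commute p q := by
  refine commutatorElement_eq_one_iff_mul_comm.1 ?_
  rw [T.comm_Q hp hq, ha, hb, polar_ofN, h]
  exact pw_zero _

namespace Std

variable (S : Std G)

theorem exists_lift [Finite G] {ω : IsoGrp SuzType.qm} (hω : ω ∈ K₄) (h3 : ω ^ 3 = 1) :
    ∃ y ∈ S.K, y ^ 3 = 1 ∧ S.T.ρ y = ω := by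
  obtain ⟨⟨k, hk⟩, hkρ⟩ := S.ρK_surj ⟨ω, hω.1⟩
  have hρ : S.T.ρ k = ω := congrArg Subtype.val hkρ
  have hz := (S.mem_K.1 hk).1
  have hQ : k ^ 3 ∈ S.T.Q :=
    (S.T.ρ_ker _ (Commute.pow_left hz 3).eq).1 (by rw [ρ_pow S.T hz, hρ, h3])
  have h12 : k ^ 12 = 1 := by
    have h := S.T.sq _ hQ
    have h' : (k ^ 3 * k ^ 3) * (k ^ 3 * k ^ 3) = 1 := by rw [h, pw_sq S.T.z_sq]
    rwa [← pow_add, ← pow_add] at h'
  refine ⟨k ^ 4, pow_mem hk 4, by rw [← pow_mul]; exact h12, ?_⟩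
  rw [ρ_pow S.T hz, hρ, pow_succ, h3, one_mul]

/-- A copy of `SL(2,3)` over an element moving a plane. -/
theorem exists_factor {y : G} (hy : y * S.T.z = S.T.z * y) (hy3 : y ^ 3 = 1) {a b : ℕ}
    (ha : qN a = true) (hb : qN b = true) (hab : pN a b = true)
    (h1 : ap (S.T.ρ y) (ofN a) = ofN b) (h2 : ap (S.T.ρ y) (ofN b) = ofN (a ^^^ b)) :
    ∃ F : Factor S.T.z, F.c = y ∧ F.i ∈ S.T.Q ∧ S.T.c F.i = ofN a ∧ F.j ∈ S.T.Q ∧
      S.T.c F.j = ofN b := by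
  obtain ⟨i, hi, hic⟩ := S.T.c_surj (ofN a)
  set z := S.T.z
  set j := y * i * y⁻¹ with hj'
  have hj : j ∈ S.T.Q := S.T.data.norm y hy i hi
  have hjc : S.T.c j = ofN b := by rw [hj', S.T.ρ_conj y hy i hi, hic, h1]
  have hii : i * i = z := by rw [S.T.sq i hi, hic, qm_ofN, ha]; exact pw_one _
  have hjj : j * j = z := by rw [S.T.sq j hj, hjc, qm_ofN, hb]; exact pw_one _
  have hzi : Commute i z := S.T.Qz hi
  have hzj : Commute j z := S.T.Qz hj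
  have hji : j * i = i * j * z := by
    have h := S.T.comm_Q hj hi
    rw [hic, hjc, polar_ofN, show pN b a = true from by rw [pN, Nat.xor_comm, Bool.xor_right_comm]; exact hab,
      show b2 true = (1 : ZMod 2) from rfl, pw_one, commutatorElement_def] at h
    calc j * i = j * i * j⁻¹ * i⁻¹ * (i * j) := by group
      _ = z * (i * j) := by rw [h]
      _ = i * j * z := ((hzi.mul_left hzj).eq).symm
  have hc3 : y * y * y = 1 := by rw [← pow_two, ← pow_succ]; exact hy3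
  have hyj : y * j * y⁻¹ = i * j ∨ y * j * y⁻¹ = i * j * z := by
    refine S.T.c_eq (mul_mem hi hj) (S.T.data.norm y hy j hj) ?_
    rw [S.T.c_mul i hi j hj, hic, hjc, S.T.ρ_conj y hy j hj, hjc, h2, ofN_xor]
  rcases hyj with e | e
  · exact ⟨⟨i, j, y, hii, hjj, hji, hc3, by rw [hj', inv_mul_cancel_right],
      mul_inv_eq_iff_eq_mul.1 e⟩, rfl, hi, hic, hj, hjc⟩
  · have hz' : S.T.z * S.T.z = 1 := S.T.z_sq
    refine ⟨⟨i * z, j * z, y, ?_, ?_, ?_, hc3, ?_, ?_⟩, rfl, mul_mem hi S.T.data.z_mem, ?_,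
      mul_mem hj S.T.data.z_mem, ?_⟩
    · rw [(Commute.symm hzi).mul_mul_mul_comm, hii, hz', mul_one]
    · rw [(Commute.symm hzj).mul_mul_mul_comm, hjj, hz', mul_one]
    · calc j * z * (i * z) = j * i * (z * z) := hzi.symm.mul_mul_mul_comm j z
        _ = i * j * z := by rw [hz', mul_one, hji]
        _ = i * z * (j * z) * z := by rw [hzj.symm.mul_mul_mul_comm i z, hz', mul_one]
    · rw [hj', ← mul_assoc, show y * i * y⁻¹ * z * y = y * i * y⁻¹ * (z * y) by group, ← hy]; group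
    · calc y * (j * z) = y * j * y⁻¹ * (y * z) := by group
        _ = i * j * z * (z * y) := by rw [e, hy]
        _ = i * j * (z * z) * y := by group
        _ = i * z * (j * z) * y := by rw [hzj.symm.mul_mul_mul_comm i z]
    · rw [S.T.c_mul i hi _ S.T.data.z_mem, hic, S.T.c_z, add_zero]
    · rw [S.T.c_mul j hj _ S.T.data.z_mem, hjc, S.T.c_z, add_zero]

/-- Two commuting copies with coordinates. -/
structure Two (S : Std G) where
  F : Frame G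
  hz : F.z = S.T.z
  cA : S.T.ρ F.A.c = t₂
  cB : S.T.ρ F.B.c = t₃
  cA_mem : F.A.c ∈ S.K
  cB_mem : F.B.c ∈ S.K
  iA_mem : F.A.i ∈ S.R
  jA_mem : F.A.j ∈ S.R
  iB_mem : F.B.i ∈ S.R
  jB_mem : F.B.j ∈ S.R
  iA_c : S.T.c F.A.i = ofN 3
  jA_c : S.T.c F.A.j = ofN 13
  iB_c : S.T.c F.B.i = ofN 12
  jB_c : S.T.c F.B.j = ofN 7

theorem exists_two [Finite G] : Nonempty S.Two := by
  set z := S.T.z with hzdef
  obtain ⟨y₂, hk₂, h32, hρ₂⟩ := S.exists_lift (ω := t₂) (el_mem_K₄ _) t₂_cube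
  obtain ⟨y₃, hk₃, h33, hρ₃⟩ := S.exists_lift (ω := t₃) (el_mem_K₄ _) t₃_cube
  obtain ⟨hz₂, hx₂⟩ := S.mem_K.1 hk₂
  obtain ⟨hz₃, hx₃⟩ := S.mem_K.1 hk₃
  have tt : ∀ w : Ix, ∀ a b : ℕ, prN (wd w) a = b → ap (el w) (ofN a) = ofN b := fun w a b h => by
    rw [ap_el, h]
  obtain ⟨A, hAc, hAi, hAic, hAj, hAjc⟩ := S.exists_factor hz₂ h32 (a := 3) (b := 13)
    (by decide) (by decide) (by decide) (by rw [hρ₂]; exact tt _ _ _ (by decide))
    (by rw [hρ₂]; exact tt _ _ _ (by decide))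
  obtain ⟨B, hBc, hBi, hBic, hBj, hBjc⟩ := S.exists_factor hz₃ h33 (a := 12) (b := 7)
    (by decide) (by decide) (by decide) (by rw [hρ₃]; exact tt _ _ _ (by decide))
    (by rw [hρ₃]; exact tt _ _ _ (by decide))
  have hR : ∀ {q : G} {a : ℕ}, q ∈ S.T.Q → S.T.c q = ofN a → prN [16, 32] a = a → q ∈ S.R :=
    fun hq hc h => S.mem_R.2 ⟨hq, by rw [hc, ap_β, h]⟩
  have f₂ : ∀ {q : G} {a : ℕ}, q ∈ S.T.Q → S.T.c q = ofN a → prN (wd (1, 0, 0, 0)) a = a → Commute y₂ q :=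
    fun hq hc h => fix_of_three hz₂ h32 hq (by rw [hρ₂, hc]; exact tt _ _ _ h)
  have f₃ : ∀ {q : G} {a : ℕ}, q ∈ S.T.Q → S.T.c q = ofN a → prN (wd (0, 1, 0, 0)) a = a → Commute y₃ q :=
    fun hq hc h => fix_of_three hz₃ h33 hq (by rw [hρ₃, hc]; exact tt _ _ _ h)
  -- the elements of order three commute
  set w := y₂ * y₃ * y₂⁻¹ * y₃⁻¹ with hw
  have h1z : y₂ * y₃ * z = z * (y₂ * y₃) := (Commute.mul_left hz₂ hz₃).eq
  have h2z : y₂ * y₃ * y₂⁻¹ * z = z * (y₂ * y₃ * y₂⁻¹) :=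
    (Commute.mul_left h1z (Commute.inv_left hz₂)).eq
  have hwz : w * z = z * w := (Commute.mul_left h2z (Commute.inv_left hz₃)).eq
  have hwQ : w ∈ S.T.Q := (S.T.ρ_ker _ hwz).1 (by
    rw [S.T.ρ_mul _ _ h2z (Commute.inv_left hz₃).eq, S.T.ρ_mul _ _ h1z (Commute.inv_left hz₂).eq,
      S.T.ρ_mul _ _ hz₂ hz₃, S.T.ρ_inv hz₂, S.T.ρ_inv hz₃, hρ₂, hρ₃, t₂t₃, mul_inv_cancel_right,
      mul_inv_cancel])
  have hwR : w ∈ S.R := ⟨hwQ, Subgroup.mem_centralizer_singleton_iff.2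
    (((Commute.mul_left (Commute.mul_left hx₂ hx₃) (Commute.inv_left hx₂)).mul_left
      (Commute.inv_left hx₃)).eq)⟩
  -- an element fixed by one image commutes with `w`
  have hwq : ∀ {q : G} {a : ℕ}, q ∈ S.T.Q → S.T.c q = ofN a →
      prN (wd (1, 0, 0, 0)) a = a ∨ prN (wd (0, 1, 0, 0)) a = a → Commute w q := by
    intro q a hq hc h
    have e₁ : S.T.c (y₂⁻¹ * q * y₂) = ap t₂⁻¹ (ofN a) := by
      have h := S.T.ρ_conj y₂⁻¹ (Commute.inv_left hz₂).eq q hq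
      rwa [inv_inv, S.T.ρ_inv hz₂, hρ₂, hc] at h
    have e₂ : S.T.c (y₃⁻¹ * q * y₃) = ap t₃⁻¹ (ofN a) := by
      have h := S.T.ρ_conj y₃⁻¹ (Commute.inv_left hz₃).eq q hq
      rwa [inv_inv, S.T.ρ_inv hz₃, hρ₃, hc] at h
    rcases h with h | h
    · have hq₂ : Commute y₂ q := f₂ hq hc h
      have hq₃ : y₃⁻¹ * q * y₃ ∈ S.T.Q := by
        simpa using S.T.data.norm y₃⁻¹ (Commute.inv_left hz₃).eq q hq
      have h' : Commute y₂ (y₃⁻¹ * q * y₃) := fix_of_three hz₂ h32 hq₃ (by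
        rw [hρ₂, e₂, ← ap_mul, (Commute.inv_right (t₂t₃ : Commute t₂ t₃)).eq, ap_mul]
        exact congrArg _ (tt _ _ _ h))
      refine mul_inv_eq_iff_eq_mul.1 ?_
      calc w * q * w⁻¹ = y₂ * (y₃ * (y₂⁻¹ * (y₃⁻¹ * q * y₃) * y₂) * y₃⁻¹) * y₂⁻¹ := by rw [hw]; group
        _ = y₂ * (y₃ * (y₃⁻¹ * q * y₃) * y₃⁻¹) * y₂⁻¹ := by
            rw [show y₂⁻¹ * (y₃⁻¹ * q * y₃) * y₂ = y₃⁻¹ * q * y₃ by
              rw [mul_assoc, ← h'.eq, inv_mul_cancel_left]]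
        _ = y₂ * q * y₂⁻¹ := by group
        _ = q := by rw [hq₂.eq, mul_inv_cancel_right]
    · have hq₃ : Commute y₃ q := f₃ hq hc h
      have hq₂ : y₂⁻¹ * q * y₂ ∈ S.T.Q := by
        simpa using S.T.data.norm y₂⁻¹ (Commute.inv_left hz₂).eq q hq
      have h' : Commute y₃ (y₂⁻¹ * q * y₂) := fix_of_three hz₃ h33 hq₂ (by
        rw [hρ₃, e₁, ← ap_mul, (Commute.inv_right ((t₂t₃).symm : Commute t₃ t₂)).eq, ap_mul]
        exact congrArg _ (tt _ _ _ h))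
      refine mul_inv_eq_iff_eq_mul.1 ?_
      calc w * q * w⁻¹ = y₂ * (y₃ * (y₂⁻¹ * (y₃⁻¹ * q * y₃) * y₂) * y₃⁻¹) * y₂⁻¹ := by rw [hw]; group
        _ = y₂ * (y₃ * (y₂⁻¹ * q * y₂) * y₃⁻¹) * y₂⁻¹ := by
            rw [show y₃⁻¹ * q * y₃ = q by rw [mul_assoc, ← hq₃.eq, inv_mul_cancel_left]]
        _ = y₂ * (y₂⁻¹ * q * y₂) * y₂⁻¹ := by rw [h'.eq, mul_inv_cancel_right]
        _ = q := by group
  have hw0 : S.T.c w = 0 := by
    refine Cfsg_qm_code _ fun d hd => ?_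
    obtain ⟨hwa, hwb⟩ := perp_of_fix ((S.mem_R.1 hwR).2)
    have key : ∀ {q : G}, q ∈ S.T.Q → Commute w q → polar ⇑SuzType.qm (S.T.c w) (S.T.c q) = 0 := by
      intro q hq h
      refine pw_inj S.T.z_ne ?_
      rw [← S.T.comm_Q hwQ hq, pw_zero]
      exact commutatorElement_eq_one_iff_mul_comm.2 h
    simp only [basN, List.mem_cons, List.not_mem_nil, or_false] at hd
    rcases hd with rfl | rfl | rfl | rfl | rfl | rfl
    · exact hwa
    · exact hwb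
    · rw [← hAic]; exact key hAi (hwq hAi hAic (Or.inr (by decide)))
    · rw [← hAjc]; exact key hAj (hwq hAj hAjc (Or.inr (by decide)))
    · rw [← hBic]; exact key hBi (hwq hBi hBic (Or.inl (by decide)))
    · rw [← hBjc]; exact key hBj (hwq hBj hBjc (Or.inl (by decide)))
  have hyy : Commute y₂ y₃ := by
    rcases S.T.c_ker w hwQ hw0 with e | e
    · exact mul_inv_eq_iff_eq_mul.1 (mul_inv_eq_one.1 e)
    · exfalso
      have h : y₂ * y₃ * y₂⁻¹ = z * y₃ := mul_inv_eq_iff_eq_mul.1 e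
      have h3 : (z * y₃) ^ 3 = 1 := by
        rw [← h, conj_pow, h33, mul_one, mul_inv_cancel]
      rw [(Commute.mul_pow (show Commute z y₃ from hz₃.symm)), h33, mul_one, pow_succ, pow_two,
        S.T.z_sq, one_mul] at h3
      exact S.T.z_ne h3
  have cq : ∀ {p q : G} {a b : ℕ}, p ∈ S.T.Q → S.T.c p = ofN a → q ∈ S.T.Q → S.T.c q = ofN b →
      pN a b = false → Commute p q := fun hp ha hq hb h => commute_of_perp S.T hp hq ha hb h
  exact ⟨
    { F :=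
        { z := z, hz := orderOf_eq_prime (by rw [pow_two]; exact S.T.z_sq) S.T.z_ne, A := A, B := B
          ii := cq hAi hAic hBi hBic (by decide)
          ij := cq hAi hAic hBj hBjc (by decide)
          ic := hBc ▸ (f₃ hAi hAic (by decide)).symm
          ji := cq hAj hAjc hBi hBic (by decide)
          jj := cq hAj hAjc hBj hBjc (by decide)
          jc := hBc ▸ (f₃ hAj hAjc (by decide)).symm
          ci := hAc ▸ f₂ hBi hBic (by decide)
          cj := hAc ▸ f₂ hBj hBjc (by decide)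
          cc := hAc ▸ hBc ▸ hyy }
      hz := rfl
      cA := hAc ▸ hρ₂
      cB := hBc ▸ hρ₃
      cA_mem := hAc ▸ hk₂
      cB_mem := hBc ▸ hk₃
      iA_mem := hR hAi hAic (by decide)
      jA_mem := hR hAj hAjc (by decide)
      iB_mem := hR hBi hBic (by decide)
      jB_mem := hR hBj hBjc (by decide)
      iA_c := hAic
      jA_c := hAjc
      iB_c := hBic
      jB_c := hBjc }⟩

namespace Two

variable {S} (W : S.Two)

theorem q_mem (x : Fin 32) : W.F.q x ∈ S.R := by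
  refine mul_mem (pow_mem (W.hz ▸ S.z_mem_R) _) (mul_mem (mul_mem ?_ ?_) (mul_mem ?_ ?_)) <;>
    apply pow_mem
  · exact W.iA_mem
  · exact W.jA_mem
  · exact W.iB_mem
  · exact W.jB_mem

theorem c_q (x : Fin 32) : S.T.c (W.F.q x) = ofN (codeV x) := by
  have hp : ∀ {g : G}, g ∈ S.R → ∀ n : ℕ, g ^ n ∈ S.T.Q := fun hg n => pow_mem hg.1 n
  have hz : ∀ n, n < 2 → S.T.c (W.F.z ^ n) = 0 := by
    intro n hn; interval_cases n <;> simp [S.T.c_one, S.T.c_z, W.hz]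
  rw [Frame.q, S.T.c_mul _ (pow_mem (W.hz ▸ S.T.data.z_mem : W.F.z ∈ S.T.Q) _) _ (mul_mem
      (mul_mem (hp W.iA_mem _) (hp W.jA_mem _)) (mul_mem (hp W.iB_mem _) (hp W.jB_mem _))),
    S.T.c_mul _ (mul_mem (hp W.iA_mem _) (hp W.jA_mem _)) _ (mul_mem (hp W.iB_mem _) (hp W.jB_mem _)),
    S.T.c_mul _ (hp W.iA_mem _) _ (hp W.jA_mem _), S.T.c_mul _ (hp W.iB_mem _) _ (hp W.jB_mem _),
    hz _ (UFourThreeType.qbit_lt x 0), c_pow_bit S.T W.iA_mem.1 W.iA_c (UFourThreeType.qbit_lt x 1),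
    c_pow_bit S.T W.jA_mem.1 W.jA_c (UFourThreeType.qbit_lt x 2),
    c_pow_bit S.T W.iB_mem.1 W.iB_c (UFourThreeType.qbit_lt x 3),
    c_pow_bit S.T W.jB_mem.1 W.jB_c (UFourThreeType.qbit_lt x 4), zero_add, codeV, ofN_xor, ofN_xor,
    ofN_xor]

/-- The quaternion parts give the fixed part. -/
theorem exists_q {r : G} (hr : r ∈ S.R) : ∃ x, W.F.q x = r := by
  obtain ⟨hrQ, hfix⟩ := S.mem_R.1 hr
  obtain ⟨n, hn, he⟩ : ∃ n < 64, ofN n = S.T.c r := ⟨_, toN_lt _, ofN_toN _⟩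
  obtain ⟨h1, h2⟩ := perp_of_fix hfix
  rw [← he, pa, polar_ofN] at h1
  rw [← he, pb, polar_ofN] at h2
  obtain ⟨x, hx⟩ := codeV_tab n hn (b2_zero _ h1) (b2_zero _ h2)
  rcases S.T.c_eq (W.q_mem x).1 hrQ (by rw [W.c_q, hx, he]) with e | e
  · exact ⟨x, e.symm⟩
  · exact ⟨qm x qz, by rw [← W.F.q_mul, W.F.q_z, W.hz, e]⟩

end Two

end Std

end Cfsg.Agent.SuzThree
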