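/-
The section `C(x)/⟨x⟩` and the centraliser of the image of `z` (helper18).

* `Sect` : a surjection of `C(x)` with kernel `⟨x⟩`; `ι`, `R'` : the involution centraliser and its radical
* `Sect.card_cent`, `Sect.genFitting` : the order and generalized Fitting subgroup of that centraliser
-/
import Cfsg.Agent.Lib.SuzThree.Std
import Cfsg.Agent.Lib.LargeExtraspecial.MonsterBaby

set_option autoImplicit false
open scoped commutatorElement

namespace Cfsg.Agent.SuzThree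

open Cfsg.Agent.SuzType Cfsg.Agent.Orth Cfsg.Agent.LargeExtraspecial
open QuadraticMap (polar)

variable {G : Type*} [Group G]

/-- A surjection of `C(x)` with kernel `⟨x⟩`. -/
structure Sect (S : Std G) (H : Type*) [Group H] where
  φ : Subgroup.centralizer ({S.x} : Set G) →* H
  surj : Function.Surjective φ
  ker : ∀ c, φ c = 1 ↔ (c : G) ∈ Subgroup.zpowers S.x

namespace Sect

variable {S : Std G} {H : Type*} [Group H] (E : Sect S H)

/-- The image of `z`. -/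
def zb : H := E.φ ⟨S.T.z, Subgroup.mem_centralizer_singleton_iff.2 S.hx.hz.symm⟩

/-- The map of `C(z, x)` into the involution centraliser. -/
def ι : S.K →* Subgroup.centralizer ({E.zb} : Set H) :=
  (E.φ.comp (Subgroup.inclusion inf_le_right)).codRestrict _ fun k =>
    Subgroup.mem_centralizer_singleton_iff.2 (by
      rw [zb, MonoidHom.comp_apply, ← map_mul, ← map_mul]
      exact congrArg E.φ (Subtype.ext (S.mem_K.1 k.2).1))

theorem ι_eq_one {k : S.K} : E.ι k = 1 ↔ (k : G) ∈ Subgroup.zpowers S.x := by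
  rw [show (k : G) = ((⟨k, k.2.2⟩ : Subgroup.centralizer ({S.x} : Set G)) : G) from rfl, ← E.ker]
  exact ⟨fun h => congrArg Subtype.val h, fun h => Subtype.ext h⟩

theorem ι_inj [Finite G] {k : S.K} (hk : (k : G) ∈ S.T.Q) (h : E.ι k = 1) : (k : G) = 1 :=
  S.eq_one_of_zpowers_mem (E.ι_eq_one.1 h) hk

theorem ι_surj [Finite G] : Function.Surjective E.ι := by
  rintro ⟨w, hw⟩
  obtain ⟨c, rfl⟩ := E.surj w
  let zC : Subgroup.centralizer ({S.x} : Set G) :=
    ⟨S.T.z, Subgroup.mem_centralizer_singleton_iff.2 S.hx.hz.symm⟩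
  have h1 : E.φ (c * zC * c⁻¹ * zC⁻¹) = 1 := by
    rw [map_mul, map_mul, map_mul, map_inv, map_inv, show E.φ zC = E.zb from rfl,
      Subgroup.mem_centralizer_singleton_iff.1 hw]
    simp
  refine ⟨⟨c, S.mem_K.2 ⟨?_, Subgroup.mem_centralizer_singleton_iff.1 c.2⟩⟩, Subtype.ext rfl⟩
  set z := S.T.z
  set w := (c : G) * z * (c : G)⁻¹ * z⁻¹ with hw'
  have hwY : w ∈ Subgroup.zpowers S.x := (E.ker _).1 h1
  obtain ⟨n, hn⟩ := S.mem_zpowers_x.1 hwY
  have hcomm : Commute w z := hn ▸ Commute.pow_left (show Commute S.x z from S.hx.hz) n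
  have h0 : (w * z) * (w * z) = 1 := by
    rw [hw', inv_mul_cancel_right]
    calc (c : G) * z * (c : G)⁻¹ * ((c : G) * z * (c : G)⁻¹) = c * (z * z) * (c : G)⁻¹ := by group
      _ = 1 := by rw [S.T.z_sq]; group
  have h2 : w * w = 1 := by
    calc w * w = w * w * (z * z) := by rw [S.T.z_sq, mul_one]
      _ = (w * z) * (w * z) := by rw [hcomm.mul_mul_mul_comm]
      _ = 1 := h0
  have h3 : w ^ 3 = 1 := by rw [hn, ← pow_mul, mul_comm, pow_mul, S.hx.cube, one_pow]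
  have h4 : w = 1 := by rwa [pow_succ, pow_two, h2, one_mul] at h3
  exact mul_inv_eq_iff_eq_mul.1 (mul_inv_eq_one.1 h4)

/-- The radical. -/
def R' : Subgroup (Subgroup.centralizer ({E.zb} : Set H)) := (S.R.subgroupOf S.K).map E.ι

theorem R'_normal [Finite G] : E.R'.Normal :=
  haveI : (S.R.subgroupOf S.K).Normal := ⟨fun q hq k => by
    obtain ⟨hkz, hkx⟩ := S.mem_K.1 k.2
    have hq' := Subgroup.mem_subgroupOf.1 hq
    refine Subgroup.mem_subgroupOf.2 ⟨S.T.data.norm k hkz q hq'.1,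
      mul_mem (mul_mem k.2.2 hq'.2) (Subgroup.inv_mem _ k.2.2)⟩⟩
  Subgroup.Normal.map inferInstance E.ι E.ι_surj

/-- The radical is that of `G`. -/
noncomputable def equivR [Finite G] : S.R ≃* E.R' := by
  refine MulEquiv.ofBijective
    ((E.ι.comp (Subgroup.inclusion S.R_le_K)).codRestrict E.R' fun q =>
      ⟨⟨q, S.R_le_K q.2⟩, Subgroup.mem_subgroupOf.2 q.2, rfl⟩) ⟨?_, ?_⟩
  · exact (injective_iff_map_eq_one _).2 fun q hq =>
      Subtype.ext (E.ι_inj (k := ⟨q, S.R_le_K q.2⟩) q.2.1 (congrArg Subtype.val hq))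
  · rintro ⟨_, k, hk, rfl⟩
    exact ⟨⟨k, Subgroup.mem_subgroupOf.1 hk⟩, Subtype.ext rfl⟩

theorem card_R' [Finite G] : Nat.card E.R' = 2 ^ 5 := by
  rw [← Nat.card_congr E.equivR.toEquiv, S.card_R]

theorem R'_extraspecial [Finite G] : Cfsg.IsExtraspecial 2 E.R' :=
  LargeExtraspecial.isExtraspecial_congr E.equivR S.R_extraspecial

theorem ψ_eq_one_iff [Finite G] {k : S.K} : S.ψ k = 1 ↔ E.ι k ∈ E.R' := by
  rw [S.ψ_eq_one]
  constructor
  · rintro ⟨i, hi⟩
    have hxi : S.x ^ i ∈ S.K := pow_mem S.x_mem_K i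
    refine ⟨k * (⟨_, hxi⟩ : S.K)⁻¹, Subgroup.mem_subgroupOf.2 ⟨hi,
      mul_mem k.2.2 (Subgroup.inv_mem _ hxi.2)⟩, ?_⟩
    rw [map_mul, map_inv, (E.ι_eq_one (k := ⟨_, hxi⟩)).2 (pow_mem (Subgroup.mem_zpowers _) i),
      inv_one, mul_one]
  · rintro ⟨q, hq, he⟩
    obtain ⟨i, hi⟩ := S.mem_zpowers_x.1 (E.ι_eq_one.1 (show E.ι (q⁻¹ * k) = 1 by
      rw [map_mul, map_inv, he, inv_mul_cancel]))
    refine ⟨i, ?_⟩
    rw [← hi]
    simp only [Subgroup.coe_mul, Subgroup.coe_inv, mul_inv_rev, inv_inv, mul_inv_cancel_left]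
    exact (Subgroup.mem_subgroupOf.1 hq).1

theorem exists_quot [Finite G] :
    ∃ f : Subgroup.centralizer ({E.zb} : Set H) →* K₄,
      Function.Surjective f ∧ (∀ d, f d = 1 ↔ d ∈ E.R') ∧ ∀ k, f (E.ι k) = S.ψ k := by
  haveI := E.R'_normal
  let η : S.K →* Subgroup.centralizer ({E.zb} : Set H) ⧸ E.R' := (QuotientGroup.mk' E.R').comp E.ι
  have hηs : Function.Surjective η := (QuotientGroup.mk'_surjective _).comp E.ι_surj
  have hk : η.ker = S.ψ.ker := by
    ext k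
    rw [MonoidHom.mem_ker, MonoidHom.mem_ker, E.ψ_eq_one_iff]
    exact QuotientGroup.eq_one_iff _
  let e := (QuotientGroup.quotientKerEquivOfSurjective η hηs).symm.trans
    ((QuotientGroup.quotientMulEquivOfEq hk).trans
      (QuotientGroup.quotientKerEquivOfSurjective S.ψ S.ψ_surj))
  refine ⟨e.toMonoidHom.comp (QuotientGroup.mk' E.R'),
    e.surjective.comp (QuotientGroup.mk'_surjective _),
    fun d => (EmbeddingLike.map_eq_one_iff (f := e)).trans (QuotientGroup.eq_one_iff d), fun k => ?_⟩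
  show (QuotientGroup.quotientKerEquivOfSurjective S.ψ S.ψ_surj) (QuotientGroup.quotientMulEquivOfEq hk
    ((QuotientGroup.quotientKerEquivOfSurjective η hηs).symm (η k))) = S.ψ k
  rw [show (QuotientGroup.quotientKerEquivOfSurjective η hηs).symm (η k) = QuotientGroup.mk k from
    (MulEquiv.symm_apply_eq _).2 rfl]
  rfl

theorem card_cent [Finite G] :
    Nat.card (Subgroup.centralizer ({E.zb} : Set H)) = 2 ^ 7 * 3 ^ 2 := by
  obtain ⟨f, hfs, hfk, -⟩ := E.exists_quot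
  have hker : f.ker = E.R' := Subgroup.ext hfk
  rw [← f.ker.card_mul_index, Subgroup.index_ker, MonoidHom.range_eq_top.2 hfs, Subgroup.card_top,
    natCard_K₄, hker, E.card_R']
  norm_num

theorem centralizer_le [Finite G] :
    Subgroup.centralizer (E.R' : Set (Subgroup.centralizer ({E.zb} : Set H))) ≤ E.R' := by
  intro d hd
  obtain ⟨k, rfl⟩ := E.ι_surj d
  refine E.ψ_eq_one_iff.1 ?_
  obtain ⟨hkz, hkx⟩ := S.mem_K.1 k.2
  have hfix : ∀ y : V6, ap β y = y → ap (S.T.ρ k) y = y := by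
    intro y hy
    obtain ⟨q, hq, hqc⟩ := S.exists_R hy
    have h1 := Subgroup.mem_centralizer_iff.1 hd (E.ι ⟨q, S.R_le_K hq⟩)
      ⟨⟨q, S.R_le_K hq⟩, Subgroup.mem_subgroupOf.2 hq, rfl⟩
    rw [← map_mul, ← map_mul] at h1
    have h2 : E.ι ((⟨q, S.R_le_K hq⟩ * k) * (k * ⟨q, S.R_le_K hq⟩)⁻¹) = 1 := by
      rw [map_mul, map_inv, h1, mul_inv_cancel]
    have h3 := E.ι_inj (by
      show q * (k : G) * ((k : G) * q)⁻¹ ∈ S.T.Q
      rw [show q * (k : G) * ((k : G) * q)⁻¹ = q * ((k : G) * q⁻¹ * (k : G)⁻¹) by group]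
      exact mul_mem hq.1 (S.T.data.norm k hkz _ (inv_mem hq.1))) h2
    have h4 : q * (k : G) = k * q := mul_inv_eq_one.1 h3
    rw [← hqc, ← S.T.ρ_conj k hkz q hq.1, ← h4, mul_inv_cancel_right]
  have hk₁ : ∀ (n : ℕ) (y : V6), ap β y = y → ap (β ^ n)⁻¹ y = y := fun n y hy => by
    refine ap_inj (β ^ n) ?_
    rw [ap_ap_inv]
    induction n with
    | zero => rw [pow_zero, ap_one]
    | succ n ih => rw [pow_succ, ap_mul, hy, ← ih]
  refine Subtype.ext (eq_of_basis fun n hn => ?_)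
  show ap (πfun (S.ρK k)) (ofN n) = ap (1 : IsoGrp qm) (ofN n)
  rw [ap_one]
  have hperp : n = 16 ∨ n = 32 ∨ prN [16, 32] n = n := by
    revert n
    decide
  rcases hperp with rfl | rfl | h
  · exact (πfun_mem _).2
  · exact pb_of_mem (πfun_mem _)
  · have hy : ap β (ofN n) = ofN n := by rw [ap_β, h]
    rw [πfun, ap_mul, show ap (S.ρK k : IsoGrp qm) (ofN n) = ofN n from hfix _ hy, hk₁ _ _ hy]

theorem pGroup_le [Finite G] (N : Subgroup (Subgroup.centralizer ({E.zb} : Set H))) (hN : N.Normal)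
    (hp : IsPGroup 2 N) : N ≤ E.R' := by
  haveI : Fact (Nat.Prime 2) := ⟨Nat.prime_two⟩
  obtain ⟨f, hfs, hfk, -⟩ := E.exists_quot
  haveI := hN.map f hfs
  obtain ⟨n, hn⟩ := IsPGroup.iff_card.mp (hp.map f)
  have hdisj : Disjoint (N.map f) E₄ := disjoint_iff.2 (Subgroup.inf_eq_bot_of_coprime (by
    rw [hn, natCard_E₄]; exact Nat.Coprime.pow_left n (by norm_num)))
  intro d hd
  have h1 : f d ∈ N.map f := ⟨d, hd, rfl⟩
  refine (hfk d).1 (Subgroup.disjoint_def.1 hdisj h1 (mem_E₄_of_cent fun e he => ?_))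
  exact (Subgroup.commute_of_normal_of_disjoint _ _ inferInstance inferInstance hdisj (f d) e h1 he).eq

theorem genFitting [Finite G] [Finite H] :
    Cfsg.generalizedFittingSubgroup (Subgroup.centralizer ({E.zb} : Set H)) = E.R' :=
  haveI := E.R'_normal
  Monster.genFitting_eq_of (IsPGroup.of_card E.card_R') E.centralizer_le E.pGroup_le

theorem orderOf_zb [Finite G] : orderOf E.zb = 2 := by
  refine orderOf_eq_prime ?_ fun h => S.T.z_ne ?_
  · rw [zb, pow_two, ← map_mul]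
    exact (congrArg E.φ (Subtype.ext S.T.z_sq)).trans E.φ.map_one
  · exact S.eq_one_of_zpowers_mem ((E.ker _).1 h) S.T.data.z_mem

theorem not_weakly_closed [Finite G] :
    ∃ g : H, (∃ hq : g * E.zb * g⁻¹ ∈ Subgroup.centralizer ({E.zb} : Set H),
      (⟨g * E.zb * g⁻¹, hq⟩ : Subgroup.centralizer ({E.zb} : Set H)) ∈ E.R') ∧
      g * E.zb * g⁻¹ ≠ E.zb := by
  obtain ⟨g, hgx, hgR, hne⟩ := S.exists_fuse
  set sK : S.K := ⟨_, S.R_le_K hgR⟩
  have hc : E.φ ⟨g, Subgroup.mem_centralizer_singleton_iff.2 hgx⟩ * E.zb *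
      (E.φ ⟨g, Subgroup.mem_centralizer_singleton_iff.2 hgx⟩)⁻¹ = (E.ι sK : H) := by
    show E.φ _ * E.φ _ * (E.φ _)⁻¹ = E.φ _
    rw [← map_inv, ← map_mul, ← map_mul]
    exact congrArg E.φ (Subtype.ext rfl)
  refine ⟨_, ⟨hc.symm ▸ (E.ι sK).2, ?_⟩, fun h => hne ?_⟩
  · exact Set.mem_of_eq_of_mem (Subtype.ext hc) (Subgroup.mem_map_of_mem _ (Subgroup.mem_subgroupOf.2 hgR))
  · have h1 : E.ι (sK * ⟨S.T.z, S.R_le_K S.z_mem_R⟩⁻¹) = 1 := by
      rw [map_mul, map_inv, mul_inv_eq_one]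
      exact Subtype.ext (hc.symm.trans h)
    exact mul_inv_eq_one.1 (E.ι_inj (mul_mem hgR.1 (Subgroup.inv_mem _ S.T.data.z_mem)) h1)

end Sect

end Cfsg.Agent.SuzThree
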