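/-
The image of `C(x)` is a group of unitary type `U₄(3)` (helper18).

* `UHyp` : the hypotheses on an involution
* `Sect.uhyp` : they hold for the image of `z`
-/
import Cfsg.Agent.Lib.SuzThree.Sect
import Cfsg.Agent.Lib.SuzThree.Frm
import Cfsg.Agent.Lib.Cores.Basic
import Cfsg.Agent.Lib.UFourThreeType.Hyp

set_option autoImplicit false
open scoped commutatorElement

namespace Cfsg.Agent.SuzThree

open Cfsg.Agent.SuzType Cfsg.Agent.Orth Cfsg.Agent.LargeExtraspecial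
open Cfsg.Agent.UFourThreeType (SLT si sj sc sword sword_surjective qz)

/-- The hypotheses of unitary type on an involution. -/
def UHyp {H : Type*} [Group H] (z : H) : Prop :=
  ∃ (H₁ H₂ Q : Subgroup (Subgroup.centralizer ({z} : Set H))) (_ : Q.Normal),
    H₁ ⊔ H₂ = Subgroup.closure {x : Subgroup.centralizer ({z} : Set H) | Odd (orderOf x)} ∧
    (H₁.subgroupOf (H₁ ⊔ H₂)).Normal ∧ (H₂.subgroupOf (H₁ ⊔ H₂)).Normal ∧
    Nonempty (H₁ ≃* Matrix.SpecialLinearGroup (Fin 2) (ZMod 3)) ∧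
    Nonempty (H₂ ≃* Matrix.SpecialLinearGroup (Fin 2) (ZMod 3)) ∧
    (H₁ ⊓ H₂).map (Subgroup.subtype (Subgroup.centralizer ({z} : Set H))) = Subgroup.zpowers z ∧
    Q = (Cfsg.pCore 2 ↥(H₁ ⊔ H₂)).map (Subgroup.subtype (H₁ ⊔ H₂)) ∧
    Cfsg.generalizedFittingSubgroup (Subgroup.centralizer ({z} : Set H)) = Q ∧
    (∃ g : H, (∃ hq : g * z * g⁻¹ ∈ Subgroup.centralizer ({z} : Set H),
      (⟨g * z * g⁻¹, hq⟩ : Subgroup.centralizer ({z} : Set H)) ∈ Q) ∧ g * z * g⁻¹ ≠ z) ∧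
    Nat.card ↥(Subgroup.centralizer ({z} : Set H)) = 2 ^ 7 * 3 ^ 2 ∧
    ∀ g : H, g * z * g⁻¹ ∈ Q.map (Subgroup.subtype (Subgroup.centralizer ({z} : Set H))) →
      g * z * g⁻¹ ≠ z →
      Nat.card ↥((Q.map (Subgroup.subtype (Subgroup.centralizer ({z} : Set H)))) ⊓
        (Q.map (Subgroup.subtype (Subgroup.centralizer ({z} : Set H)))).map
          (MulAut.conj g).toMonoidHom) = 4

theorem closure_odd_normal {L : Type*} [Group L] :
    (Subgroup.closure {x : L | Odd (orderOf x)}).Normal :=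
  ⟨fun n hn g => UFourThreeType.conj_mem_closure_odd g n hn⟩

theorem le_normalizer_of_commute {L : Type*} [Group L] {A B : Subgroup L}
    (h : ∀ a ∈ A, ∀ b ∈ B, a * b = b * a) : A ⊔ B ≤ Subgroup.normalizer (A : Set L) :=
  sup_le Subgroup.le_normalizer fun b hb =>
    Subgroup.centralizer_le_normalizer _ (Subgroup.mem_centralizer_iff.2 fun a ha => h a ha b hb)

namespace Std.Two

variable {G : Type*} [Group G] {S : Std G} (W : S.Two)

theorem zz : W.F.z * W.F.z = 1 := W.F.zz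

theorem fval_mem (p : W3) : fval W.F.A p ∈ S.K ∧ fval W.F.B p ∈ S.K :=
  ⟨mul_mem (mul_mem (pow_mem (S.R_le_K W.iA_mem) _) (pow_mem (S.R_le_K W.jA_mem) _))
      (pow_mem W.cA_mem _),
    mul_mem (mul_mem (pow_mem (S.R_le_K W.iB_mem) _) (pow_mem (S.R_le_K W.jB_mem) _))
      (pow_mem W.cB_mem _)⟩

/-- The first copy. -/
noncomputable def hA : SLT →* S.K :=
  (fhom W.F.A W.zz).codRestrict S.K fun A => by
    obtain ⟨p, rfl⟩ := sword_surjective A
    rw [fhom_apply]; exact (W.fval_mem p).1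

/-- The second copy. -/
noncomputable def hB : SLT →* S.K :=
  (fhom W.F.B W.zz).codRestrict S.K fun A => by
    obtain ⟨p, rfl⟩ := sword_surjective A
    rw [fhom_apply]; exact (W.fval_mem p).2

theorem hA_hB (A B : SLT) : W.hA A * W.hB B = W.hB B * W.hA A := by
  refine Subtype.ext ?_
  show fhom W.F.A W.zz A * fhom W.F.B W.zz B = fhom W.F.B W.zz B * fhom W.F.A W.zz A
  obtain ⟨⟨a, b, m⟩, rfl⟩ := sword_surjective A
  obtain ⟨⟨c, d, n⟩, rfl⟩ := sword_surjective B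
  rw [fhom_apply, fhom_apply, fval, fval]
  refine Commute.mul_left (Commute.mul_left ?_ ?_) ?_ <;> refine Commute.pow_left ?_ _ <;>
    refine Commute.mul_right (Commute.mul_right ?_ ?_) ?_ <;> refine Commute.pow_right ?_ _
  exacts [W.F.ii, W.F.ij, W.F.ic, W.F.ji, W.F.jj, W.F.jc, W.F.ci, W.F.cj, W.F.cc]

end Std.Two

namespace Sect

variable {G : Type*} [Group G] {S : Std G} {H : Type*} [Group H] (E : Sect S H) (W : S.Two)

/-- The first factor. -/
noncomputable def homA : SLT →* Subgroup.centralizer ({E.zb} : Set H) := E.ι.comp W.hA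
/-- The second factor. -/
noncomputable def homB : SLT →* Subgroup.centralizer ({E.zb} : Set H) := E.ι.comp W.hB

/-- The image of `z` in its centraliser. -/
def zc : Subgroup.centralizer ({E.zb} : Set H) :=
  ⟨E.zb, Subgroup.mem_centralizer_singleton_iff.2 rfl⟩

theorem hom_sisi : E.homA W (si * si) = E.zc ∧ E.homB W (si * si) = E.zc := by
  constructor <;> refine Subtype.ext (congrArg E.φ (Subtype.ext ?_))
  · exact (fhom_sisi W.F.A W.zz).trans W.hz
  · exact (fhom_sisi W.F.B W.zz).trans W.hz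

variable [Finite G]

theorem zc_ne : E.zc ≠ 1 := fun h => by
  have h' := E.orderOf_zb
  rw [show E.zb = 1 from congrArg Subtype.val h, orderOf_one] at h'
  omega

theorem hom_inj : Function.Injective (E.homA W) ∧ Function.Injective (E.homB W) :=
  ⟨injective_of_sisi _ ((E.hom_sisi W).1 ▸ E.zc_ne), injective_of_sisi _ ((E.hom_sisi W).2 ▸ E.zc_ne)⟩

theorem hom_odd (f : SLT →* Subgroup.centralizer ({E.zb} : Set H)) :
    f.range ≤ Subgroup.closure {x : Subgroup.centralizer ({E.zb} : Set H) | Odd (orderOf x)} := by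
  have hm : ∀ A : SLT, A ^ 3 = 1 → f A ∈
      Subgroup.closure {x : Subgroup.centralizer ({E.zb} : Set H) | Odd (orderOf x)} := by
    intro A hA
    refine Subgroup.subset_closure (show Odd (orderOf (f A)) from ?_)
    refine Odd.of_dvd_nat (by decide : Odd 3) ?_
    exact orderOf_dvd_of_pow_eq_one (by rw [← map_pow, hA, map_one])
  have h1 : sc ^ 3 = 1 := by decide +kernel
  have h2 : (si * sc * si⁻¹) ^ 3 = 1 := by decide +kernel
  have h3 : (sj * sc * sj⁻¹) ^ 3 = 1 := by decide +kernel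
  rintro _ ⟨A, rfl⟩
  obtain ⟨a, b, c, rfl | rfl | rfl⟩ := gen_three A <;>
    rw [map_mul, map_mul, map_pow, map_pow, map_pow]
  · exact mul_mem (mul_mem (pow_mem (hm _ h1) _) (pow_mem (hm _ h2) _)) (pow_mem (hm _ h1) _)
  · exact mul_mem (mul_mem (pow_mem (hm _ h2) _) (pow_mem (hm _ h1) _)) (pow_mem (hm _ h2) _)
  · exact mul_mem (mul_mem (pow_mem (hm _ h1) _) (pow_mem (hm _ h2) _)) (pow_mem (hm _ h3) _)

theorem mem_R'_imp {d : Subgroup.centralizer ({E.zb} : Set H)} (hd : d ∈ E.R') :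
    d ∈ (E.homA W).range ⊔ (E.homB W).range := by
  obtain ⟨k, hk, rfl⟩ := hd
  obtain ⟨x, hx⟩ := W.exists_q (Subgroup.mem_subgroupOf.1 hk)
  have hs : ∀ a b : ℕ, ((W.hA (si ^ a * sj ^ b) : S.K) : G) = W.F.A.i ^ a * W.F.A.j ^ b ∧
      ((W.hB (si ^ a * sj ^ b) : S.K) : G) = W.F.B.i ^ a * W.F.B.j ^ b := fun a b => by
    constructor
    · show fhom W.F.A W.zz _ = _
      rw [map_mul, map_pow, map_pow, (fhom_gen W.F.A W.zz).1, (fhom_gen W.F.A W.zz).2.1]
    · show fhom W.F.B W.zz _ = _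
      rw [map_mul, map_pow, map_pow, (fhom_gen W.F.B W.zz).1, (fhom_gen W.F.B W.zz).2.1]
  have e : k = W.hA ((si * si) ^ UFourThreeType.qbit x 0) *
      (W.hA (si ^ UFourThreeType.qbit x 1 * sj ^ UFourThreeType.qbit x 2) *
        W.hB (si ^ UFourThreeType.qbit x 3 * sj ^ UFourThreeType.qbit x 4)) := by
    refine Subtype.ext ?_
    rw [Subgroup.coe_mul, Subgroup.coe_mul, (hs _ _).1, (hs _ _).2]
    refine hx.symm.trans (congrArg (· * _) ?_)
    show _ = fhom W.F.A W.zz _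
    rw [map_pow, fhom_sisi]
  rw [e, map_mul, map_mul]
  exact mul_mem (Subgroup.mem_sup_left ⟨_, rfl⟩) (Subgroup.mul_mem_sup ⟨_, rfl⟩ ⟨_, rfl⟩)

theorem sup_eq :
    (E.homA W).range ⊔ (E.homB W).range =
      Subgroup.closure {x : Subgroup.centralizer ({E.zb} : Set H) | Odd (orderOf x)} := by
  refine le_antisymm (sup_le (E.hom_odd _) (E.hom_odd _)) ((Subgroup.closure_le _).2 fun d hd => ?_)
  obtain ⟨f, -, hfk, hfι⟩ := E.exists_quot
  have hE : f d ∈ E₄ := mem_E₄_of_odd (Odd.of_dvd_nat hd (orderOf_map_dvd f d))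
  obtain ⟨p, hp⟩ := hE
  have hA : S.ψ (W.hA sc) = e₄ (1, 0) := by
    have h : S.ρK (W.hA sc) = ⟨t₂, el_mem_Cβ _⟩ := Subtype.ext (by
      show S.T.ρ (fhom W.F.A W.zz sc) = t₂
      rw [(fhom_gen W.F.A W.zz).2.2]; exact W.cA)
    show π (S.ρK _) = _
    rw [h]; exact π_of_mem (el_mem_K₄ _)
  have hB : S.ψ (W.hB sc) = e₄ (0, 1) := by
    have h : S.ρK (W.hB sc) = ⟨t₃, el_mem_Cβ _⟩ := Subtype.ext (by
      show S.T.ρ (fhom W.F.B W.zz sc) = t₃
      rw [(fhom_gen W.F.B W.zz).2.2]; exact W.cB)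
    show π (S.ρK _) = _
    rw [h]; exact π_of_mem (el_mem_K₄ _)
  set t := E.homA W sc ^ (p.1 : ℕ) * E.homB W sc ^ (p.2 : ℕ)
  have ht : t ∈ (E.homA W).range ⊔ (E.homB W).range :=
    Subgroup.mul_mem_sup (pow_mem (MonoidHom.mem_range.2 ⟨sc, rfl⟩) _) (pow_mem (MonoidHom.mem_range.2 ⟨sc, rfl⟩) _)
  have hft : f t = f d := by
    rw [map_mul, map_pow, map_pow, ← hp, e₄_eq p, ← hA, ← hB, ← hfι, ← hfι]
    rfl
  have hr : t⁻¹ * d ∈ E.R' := (hfk _).1 (by rw [map_mul, map_inv, hft, inv_mul_cancel])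
  show d ∈ _
  rw [← mul_inv_cancel_left t d]
  exact mul_mem ht (E.mem_R'_imp W hr)

theorem R'_le : E.R' ≤ (E.homA W).range ⊔ (E.homB W).range := fun _ hd => E.mem_R'_imp W hd

theorem pCore_eq :
    E.R' = (Cfsg.pCore 2 ↥((E.homA W).range ⊔ (E.homB W).range)).map
      (Subgroup.subtype ((E.homA W).range ⊔ (E.homB W).range)) := by
  set J := (E.homA W).range ⊔ (E.homB W).range with hJ
  haveI : J.Normal := by rw [hJ, E.sup_eq W]; exact closure_odd_normal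
  haveI := E.R'_normal
  refine le_antisymm (fun d hd => ?_)
    (E.pGroup_le _ inferInstance ((Cores.isPGroup_pCore 2 J).map _))
  refine ⟨⟨d, E.R'_le W hd⟩, Cores.le_pCore (N := E.R'.subgroupOf J) inferInstance ?_ hd, rfl⟩
  exact (IsPGroup.of_card E.card_R').comap_of_injective J.subtype J.subtype_injective

/-- The radicals of two fused involutions meet in a four group. -/
theorem card_meet (g : H)
    (hg : g * E.zb * g⁻¹ ∈ E.R'.map (Subgroup.subtype (Subgroup.centralizer ({E.zb} : Set H))))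
    (hne : g * E.zb * g⁻¹ ≠ E.zb) :
    Nat.card ↥((E.R'.map (Subgroup.subtype (Subgroup.centralizer ({E.zb} : Set H)))) ⊓
      (E.R'.map (Subgroup.subtype (Subgroup.centralizer ({E.zb} : Set H)))).map
        (MulAut.conj g).toMonoidHom) = 4 := by
  set z := S.T.z with hzdef
  obtain ⟨_, ⟨sK, hs, rfl⟩, hse⟩ := hg
  obtain ⟨c, rfl⟩ := E.surj g
  have hsR : (sK : G) ∈ S.R := Subgroup.mem_subgroupOf.1 hs
  obtain ⟨hsQ, hsx⟩ := hsR
  have hsx' := Subgroup.mem_centralizer_singleton_iff.1 hsx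
  have hcx := Subgroup.mem_centralizer_singleton_iff.1 c.2
  let zC : Subgroup.centralizer ({S.x} : Set G) :=
    ⟨z, Subgroup.mem_centralizer_singleton_iff.2 S.hx.hz.symm⟩
  have hse' : E.φ ⟨sK, sK.2.2⟩ = E.φ (c * zC * c⁻¹) := by
    rw [map_mul, map_mul, map_inv]
    exact hse
  have four : ∀ {r : G}, r ∈ S.T.Q → r ^ 4 = 1 := fun hr => by
    rw [show (4 : ℕ) = 2 + 2 from rfl, pow_add, pow_two, S.T.sq _ hr, pw_sq S.T.z_sq]
  have key : ∀ {a b : G}, a ^ 4 = 1 → b ^ 4 = 1 → (∃ i : ℕ, b = a * S.x ^ i) → Commute a S.x → b = a := by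
    rintro a b ha hb ⟨i, rfl⟩ hc
    rw [(hc.pow_right i).mul_pow, ha, one_mul, ← pow_mul] at hb
    have h3 : (S.x ^ i) ^ 3 = 1 := by rw [← pow_mul, mul_comm, pow_mul, S.hx.cube, one_pow]
    rw [pow_mul, show (4 : ℕ) = 3 + 1 from rfl, pow_add, h3, one_mul, pow_one] at hb
    rw [hb, mul_one]
  have lift : ∀ {a b : Subgroup.centralizer ({S.x} : Set G)}, E.φ a = E.φ b →
      ∃ i : ℕ, (b : G) = (a : G) * S.x ^ i := by
    intro a b h
    obtain ⟨i, hi⟩ := S.mem_zpowers_x.1 ((E.ker (a⁻¹ * b)).1 (by rw [map_mul, map_inv, h, inv_mul_cancel]))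
    exact ⟨i, by rw [← hi]; simp⟩
  have hcz : (c : G) * z * (c : G)⁻¹ = sK := by
    obtain ⟨i, hi⟩ := lift hse'
    refine key (four hsQ) ?_ ⟨i, hi⟩ hsx'
    rw [conj_pow, show (4 : ℕ) = 2 + 2 from rfl, pow_add, pow_two, S.T.z_sq, mul_one, mul_one,
      mul_inv_cancel]
  have hsz : (sK : G) ≠ z := fun e => hne (by
    rw [← hse]
    exact congrArg E.φ (Subtype.ext e))
  have hs2 : (sK : G) * sK = 1 := by
    rw [← hcz, show (c : G) * z * (c : G)⁻¹ * (c * z * (c : G)⁻¹) = c * (z * z) * (c : G)⁻¹ by group,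
      S.T.z_sq, mul_one, mul_inv_cancel]
  have hs1 : (sK : G) ≠ 1 := fun e => S.T.z_ne (conj_eq_one_iff.1 (hcz.trans e))
  have h0 : S.T.c (sK : G) ≠ 0 := fun e => (S.T.c_ker _ hsQ e).elim hs1 hsz
  have hq : qm (S.T.c (sK : G)) = 0 := pw_inj S.T.z_ne (by rw [← S.T.sq _ hsQ, hs2, pw_zero])
  obtain ⟨ω, hω, hωv⟩ := exists_omega_to_v0 h0 hq
  let F : Fr G := ⟨S.T.twist ω hω, c, hcz.symm ▸ hsQ, by
    show ap ω (S.T.c ((c : G) * z * (c : G)⁻¹)) = v0
    rw [hcz]; exact hωv⟩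
  have hFv : F.v = sK := hcz
  have hzP : z ∈ conjS (c : G) S.T.Q :=
    S.T.data.mem_conj (hcz.symm ▸ hsQ) (hcz.symm ▸ hsz) (by rw [S.T.card_Q]; norm_num)
  -- the elements of the four group, upstairs
  let el4 : ZMod 2 × ZMod 2 → G := fun p => pw z p.1 * pw (sK : G) p.2
  have hK : ∀ p, el4 p ∈ S.K := fun p =>
    mul_mem (pw_mem (S.R_le_K S.z_mem_R) _) (pw_mem sK.2 _)
  let f4 : ZMod 2 × ZMod 2 → H := fun p => E.φ ⟨el4 p, (hK p).2⟩
  have inR : ∀ p, el4 p ∈ S.R := fun p =>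
    mul_mem (pw_mem S.z_mem_R _) (pw_mem (show (sK : G) ∈ S.R from ⟨hsQ, hsx⟩) _)
  have conjR : ∀ p, (c : G)⁻¹ * el4 p * c ∈ S.R := by
    intro p
    have hz' : (c : G)⁻¹ * z * c ∈ S.R := by
      refine ⟨mem_conjS.1 hzP, Subgroup.mem_centralizer_singleton_iff.2 ?_⟩
      exact ((Commute.mul_left (Commute.inv_left hcx) S.hx.hz.symm).mul_left hcx).eq
    have hs' : (c : G)⁻¹ * sK * c ∈ S.R := by
      rw [← hcz, show (c : G)⁻¹ * ((c : G) * z * (c : G)⁻¹) * c = z by group]; exact S.z_mem_R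
    rw [show (c : G)⁻¹ * el4 p * c = (c : G)⁻¹ * pw z p.1 * c * ((c : G)⁻¹ * pw (sK : G) p.2 * c) by
      simp only [el4]; group]
    refine mul_mem ?_ ?_
    · have := pw_map (z := z) (c : G)⁻¹ p.1
      rw [inv_inv] at this
      rw [this]; exact pw_mem hz' _
    · have := pw_map (z := (sK : G)) (c : G)⁻¹ p.2
      rw [inv_inv] at this
      rw [this]; exact pw_mem hs' _
  have toR' : ∀ {r : G} (hr : r ∈ S.R), E.φ ⟨r, hr.2⟩ ∈
      E.R'.map (Subgroup.subtype (Subgroup.centralizer ({E.zb} : Set H))) := fun hr =>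
    ⟨_, ⟨⟨_, S.R_le_K hr⟩, Subgroup.mem_subgroupOf.2 hr, rfl⟩, rfl⟩
  have hmem : ∀ p, f4 p ∈ (E.R'.map (Subgroup.subtype (Subgroup.centralizer ({E.zb} : Set H)))) ⊓
      (E.R'.map (Subgroup.subtype (Subgroup.centralizer ({E.zb} : Set H)))).map
        (MulAut.conj (E.φ c)).toMonoidHom := by
    refine fun p => ⟨toR' (inR p), ⟨_, toR' (conjR p), ?_⟩⟩
    show E.φ c * E.φ _ * (E.φ c)⁻¹ = E.φ _
    rw [← map_inv, ← map_mul, ← map_mul]
    refine congrArg E.φ (Subtype.ext ?_)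
    show (c : G) * ((c : G)⁻¹ * el4 p * c) * (c : G)⁻¹ = el4 p
    group
  rw [← Nat.card_congr (Equiv.ofBijective (fun p => (⟨f4 p, hmem p⟩ : ↥(_ ⊓ _ : Subgroup H))) ⟨?_, ?_⟩),
    Nat.card_prod, Nat.card_zmod]
  · intro p q h
    obtain ⟨i, hi⟩ := lift (congrArg Subtype.val h)
    have he := key (four (inR p).1) (four (inR q).1) ⟨i, hi⟩
      (Subgroup.mem_centralizer_singleton_iff.1 (inR p).2)
    have := F.vz_inj (i := p.1) (j := p.2) (i' := q.1) (j' := q.2) (by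
      show pw z p.1 * pw ((c : G) * z * (c : G)⁻¹) p.2 = pw z q.1 * pw ((c : G) * z * (c : G)⁻¹) q.2
      rw [hcz]; exact he.symm)
    exact Prod.ext this.1 this.2
  · rintro ⟨w, ⟨_, ⟨r, hr, rfl⟩, hwr⟩, _, ⟨_, ⟨r', hr', rfl⟩, rfl⟩, hwr'⟩
    have hrR := Subgroup.mem_subgroupOf.1 hr
    have hrR' := Subgroup.mem_subgroupOf.1 hr'
    have hφ : E.φ ⟨r, r.2.2⟩ = E.φ (c * ⟨r', r'.2.2⟩ * c⁻¹) := by
      rw [map_mul, map_mul, map_inv]
      exact hwr.trans hwr'.symm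
    obtain ⟨i, hi⟩ := lift hφ
    have hr4 : ((c : G) * r' * (c : G)⁻¹) ^ 4 = 1 := by
      rw [conj_pow, four hrR'.1, mul_one, mul_inv_cancel]
    have he : (c : G) * r' * (c : G)⁻¹ = r :=
      key (four hrR.1) hr4 ⟨i, hi⟩ (Subgroup.mem_centralizer_singleton_iff.1 hrR.2)
    obtain ⟨a, b, hab⟩ := F.E_inV (e := (r : G)) ⟨hrR.1, mem_conjS.2 (by
      show (c : G)⁻¹ * r * c ∈ S.T.Q
      rw [← he, show (c : G)⁻¹ * ((c : G) * r' * (c : G)⁻¹) * c = r' by group]; exact hrR'.1)⟩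
    refine ⟨(a, b), Subtype.ext ?_⟩
    refine Eq.trans ?_ hwr
    refine congrArg E.φ (Subtype.ext ?_)
    show pw z a * pw (sK : G) b = r
    rw [hab, hFv]
    rfl

/-- The hypotheses of unitary type. -/
theorem uhyp [Finite H] : UHyp E.zb := by
  obtain ⟨W⟩ := S.exists_two
  set A := (E.homA W).range with hA
  set B := (E.homB W).range with hB
  have hcomm : ∀ a ∈ A, ∀ b ∈ B, a * b = b * a := by
    rintro _ ⟨a, rfl⟩ _ ⟨b, rfl⟩
    show E.ι (W.hA a) * E.ι (W.hB b) = E.ι (W.hB b) * E.ι (W.hA a)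
    rw [← map_mul, ← map_mul, W.hA_hB]
  refine ⟨A, B, E.R', E.R'_normal, E.sup_eq W,
    Subgroup.normal_subgroupOf_iff_le_normalizer le_sup_left |>.2 (le_normalizer_of_commute hcomm),
    Subgroup.normal_subgroupOf_iff_le_normalizer le_sup_right |>.2 ?_,
    ⟨(MonoidHom.ofInjective (E.hom_inj W).1).symm⟩, ⟨(MonoidHom.ofInjective (E.hom_inj W).2).symm⟩,
    ?_, E.pCore_eq W, E.genFitting, E.not_weakly_closed, E.card_cent, E.card_meet⟩
  · rw [sup_comm]
    exact le_normalizer_of_commute fun b hb a ha => (hcomm a ha b hb).symm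
  · refine le_antisymm ?_ (Subgroup.zpowers_le.2
      ⟨E.zc, ⟨⟨_, (E.hom_sisi W).1⟩, ⟨_, (E.hom_sisi W).2⟩⟩, rfl⟩)
    rintro _ ⟨d, ⟨⟨a, rfl⟩, hdB⟩, rfl⟩
    rcases center_SLT a
      ((E.hom_inj W).1 (by
        rw [map_mul, map_mul]; exact (hcomm _ ⟨si, rfl⟩ _ hdB).symm))
      ((E.hom_inj W).1 (by
        rw [map_mul, map_mul]; exact (hcomm _ ⟨sj, rfl⟩ _ hdB).symm)) with rfl | rfl
    · rw [map_one]; exact one_mem _
    · rw [(E.hom_sisi W).1]; exact Subgroup.mem_zpowers E.zb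

end Sect

end Cfsg.Agent.SuzThree
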