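/-
An element of order three of `PSU₄(3)` in the derived subgroup of its centraliser and centralising a
quaternion group (helper18).

* `Spot` : the configuration in a group
* `exists_spot` : it occurs in the projective special unitary group
-/
import Cfsg.Agent.Lib.Leech.PSU43.Iso
import Cfsg.Agent.Lib.Unitary.Center

set_option autoImplicit false
set_option maxRecDepth 100000

namespace Cfsg.Agent.SuzThree

open Cfsg.Agent.StabCert Cfsg.Agent.Unitary

/-- The configuration. -/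
def Spot {L : Type*} [Group L] (s t : L) : Prop :=
  s * s = 1 ∧ s ≠ 1 ∧ t ^ 3 = 1 ∧ t ≠ 1 ∧ Commute s t ∧
    (∃ u v : L, Commute u t ∧ Commute v t ∧ t * (v * u) = u * v) ∧
    ∃ a b : L, Commute a t ∧ Commute b t ∧ a * a = s ∧ b * b = s ∧ b * a = a * b * s

theorem Spot.map {L M : Type*} [Group L] [Group M] {s t : L} (h : Spot s t) (f : L ≃* M) :
    Spot (f s) (f t) := by
  obtain ⟨h1, h2, h3, h4, h5, ⟨u, v, hu, hv, he⟩, a, b, ha, hb, haa, hbb, hba⟩ := h
  refine ⟨by rw [← map_mul, h1, map_one], fun e => h2 (f.injective (e.trans (map_one f).symm)),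
    by rw [← map_pow, h3, map_one], fun e => h4 (f.injective (e.trans (map_one f).symm)), h5.map f,
    ⟨f u, f v, hu.map f, hv.map f, by rw [← map_mul, ← map_mul, ← map_mul, he]⟩,
    f a, f b, ha.map f, hb.map f, by rw [← map_mul, haa], by rw [← map_mul, hbb],
    by rw [← map_mul, ← map_mul, ← map_mul, hba]⟩

/-- Matrix of `u`. -/
def mu : Matrix (Fin 4) (Fin 4) (Quad 3 2 0) :=
  qmat 3 2 0 4 [[2, 7, 2, 0], [4, 0, 8, 0], [1, 7, 1, 0], [0, 0, 0, 1]]
/-- Matrix of `v`. -/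
def mv : Matrix (Fin 4) (Fin 4) (Quad 3 2 0) :=
  qmat 3 2 0 4 [[2, 7, 3, 0], [4, 0, 5, 0], [3, 4, 1, 0], [0, 0, 0, 1]]
/-- Matrix of `t`. -/
def mt : Matrix (Fin 4) (Fin 4) (Quad 3 2 0) :=
  qmat 3 2 0 4 [[4, 4, 0, 0], [5, 7, 0, 0], [0, 0, 1, 0], [0, 0, 0, 1]]
/-- Matrix of `a`. -/
def ma : Matrix (Fin 4) (Fin 4) (Quad 3 2 0) :=
  qmat 3 2 0 4 [[1, 0, 0, 0], [0, 1, 0, 0], [0, 0, 0, 1], [0, 0, 2, 0]]
/-- Matrix of `b`. -/
def mb : Matrix (Fin 4) (Fin 4) (Quad 3 2 0) :=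
  qmat 3 2 0 4 [[1, 0, 0, 0], [0, 1, 0, 0], [0, 0, 3, 0], [0, 0, 0, 6]]
/-- Matrix of `s`. -/
def ms : Matrix (Fin 4) (Fin 4) (Quad 3 2 0) :=
  qmat 3 2 0 4 [[1, 0, 0, 0], [0, 1, 0, 0], [0, 0, 2, 0], [0, 0, 0, 2]]
/-- A witness that `s` and `t` are not central. -/
def mp : Matrix (Fin 4) (Fin 4) (Quad 3 2 0) :=
  qmat 3 2 0 4 [[1, 0, 0, 0], [0, 0, 1, 0], [0, 2, 0, 0], [0, 0, 0, 1]]

theorem ok_all : suOK mu = true ∧ suOK mv = true ∧ suOK mt = true ∧ suOK ma = true ∧ suOK mb = true ∧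
    suOK ms = true ∧ suOK mp = true := by decide +kernel

theorem rel_all : ms * ms = 1 ∧ mt * (mt * mt) = 1 ∧ ms * mt = mt * ms ∧ mu * mt = mt * mu ∧
    mv * mt = mt * mv ∧ mt * (mv * mu) = mu * mv ∧ ma * mt = mt * ma ∧ mb * mt = mt * mb ∧
    ma * ma = ms ∧ mb * mb = ms ∧ mb * ma = ma * mb * ms ∧ mp * ms ≠ ms * mp ∧ mp * mt ≠ mt * mp := by
  decide +kernel

/-- The configuration occurs. -/
theorem exists_spot {F : Type} [Field F] [Fintype F] (hF : Fintype.card F = 3 ^ 2) :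
    ∃ s t : Cfsg.PSU 4 F 3, Spot s t := by
  haveI : Fact (Nat.Prime 3) := ⟨Nat.prime_three⟩
  obtain ⟨φ, hφ⟩ := Leech.exists_hom_psu43 hF
  have hinj : Function.Injective φ := Quad.hom_injective (by decide +kernel) φ
  obtain ⟨o1, o2, o3, o4, o5, o6, o7⟩ := ok_all
  set U := suOf φ hφ hF mu o1
  set V := suOf φ hφ hF mv o2
  set T := suOf φ hφ hF mt o3
  set A := suOf φ hφ hF ma o4
  set B := suOf φ hφ hF mb o5
  set S := suOf φ hφ hF ms o6
  set P := suOf φ hφ hF mp o7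
  have val : ∀ (M : Matrix (Fin 4) (Fin 4) (Quad 3 2 0)) (h : suOK M = true),
      ((suOf φ hφ hF M h : Matrix.SpecialLinearGroup (Fin 4) F) : Matrix (Fin 4) (Fin 4) F) =
        φ.mapMatrix M := fun M h => rfl
  have ext : ∀ {X Y : Cfsg.SU 4 F 3},
      ((X : Matrix.SpecialLinearGroup (Fin 4) F) : Matrix (Fin 4) (Fin 4) F) =
        ((Y : Matrix.SpecialLinearGroup (Fin 4) F) : Matrix (Fin 4) (Fin 4) F) → X = Y :=
    fun h => Subtype.ext (Subtype.ext h)
  have mi : Function.Injective φ.mapMatrix := fun X Y h =>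
    Matrix.ext fun i j => hinj (congrFun (congrFun (congrArg (fun Z : Matrix _ _ F => (Z : Fin 4 → Fin 4 → F)) h) i) j)
  obtain ⟨r1, r2, r3, r4, r5, r6, r7, r8, r9, r10, r11, r12, r13⟩ := rel_all
  have cS : P * S ≠ S * P := fun h => r12 (mi (by
    have := congrArg (fun X : Cfsg.SU 4 F 3 => ((X : Matrix.SpecialLinearGroup (Fin 4) F) : Matrix (Fin 4) (Fin 4) F)) h
    simpa [P, S, val] using this))
  have cT : P * T ≠ T * P := fun h => r13 (mi (by
    have := congrArg (fun X : Cfsg.SU 4 F 3 => ((X : Matrix.SpecialLinearGroup (Fin 4) F) : Matrix (Fin 4) (Fin 4) F)) h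
    simpa [P, T, val] using this))
  let π := QuotientGroup.mk' (Subgroup.center (Cfsg.SU 4 F 3))
  have ne : ∀ {X : Cfsg.SU 4 F 3}, P * X ≠ X * P → π X ≠ 1 := fun hX h =>
    hX (Subgroup.mem_center_iff.1 ((QuotientGroup.eq_one_iff _).1 h) P)
  have lift : ∀ {X Y : Matrix (Fin 4) (Fin 4) (Quad 3 2 0)}, X = Y → φ.mapMatrix X = φ.mapMatrix Y :=
    fun h => congrArg _ h
  refine ⟨π S, π T, ?_, ne cS, ?_, ne cT, Commute.map (ext ?_) π,
    ⟨π U, π V, Commute.map (ext ?_) π, Commute.map (ext ?_) π, ?_⟩,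
    π A, π B, Commute.map (ext ?_) π, Commute.map (ext ?_) π, ?_, ?_, ?_⟩
  · rw [← map_mul, ← map_one π]; refine congrArg π (ext ?_); simpa [S, val] using lift r1
  · rw [pow_succ', pow_two, ← map_mul, ← map_mul, ← map_one π]
    refine congrArg π (ext ?_); simpa [T, val] using lift r2
  · simpa [S, T, val] using lift r3
  · simpa [U, T, val] using lift r4
  · simpa [V, T, val] using lift r5
  · rw [← map_mul, ← map_mul, ← map_mul]; refine congrArg π (ext ?_); simpa [U, V, T, val] using lift r6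
  · simpa [A, T, val] using lift r7
  · simpa [B, T, val] using lift r8
  · rw [← map_mul]; refine congrArg π (ext ?_); simpa [A, S, val] using lift r9
  · rw [← map_mul]; refine congrArg π (ext ?_); simpa [B, S, val] using lift r10
  · rw [← map_mul, ← map_mul, ← map_mul]; refine congrArg π (ext ?_)
    simpa [A, B, S, val] using lift r11

end Cfsg.Agent.SuzThree
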