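/-
The images of the elements of order three fixing a four-dimensional part lie in the derived subgroups
of their centralisers (helper18).

* `axisP` : the indices of those elements
* `Sect.image_derived` : the statement, given the unitary group and its class of involutions
-/
import Cfsg.Agent.Lib.SuzThree.Sect
import Cfsg.Agent.Lib.SuzThree.Model

set_option autoImplicit false
open scoped commutatorElement Pointwise

namespace Cfsg.Agent.SuzThree

open Cfsg.Agent.SuzType Cfsg.Agent.Orth Cfsg.Agent.LargeExtraspecial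
open QuadraticMap (polar)

/-- The indices of the elements moving a plane. -/
def axisP (p : Fin 3 × Fin 3) : Bool := (p.1 == 0) != (p.2 == 0)

theorem axis_cases : ∀ p : Fin 3 × Fin 3, p ≠ 0 → axisP p = true ∨ (p.1 ≠ 0 ∧ p.2 ≠ 0) := by decide

theorem diag_fix_tab : ∀ p : Fin 3 × Fin 3, p.1 ≠ 0 → p.2 ≠ 0 → ∀ n < 64, prN [16, 32] n = n →
    prN (wd (p.1, p.2, 0, 0)) n = n → n = 0 := by
  decide +kernel

set_option synthInstance.maxSize 4000 in
set_option synthInstance.maxHeartbeats 200000 in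
theorem diag_four_tab : ∀ p : Fin 3 × Fin 3, p.1 ≠ 0 → p.2 ≠ 0 → ∀ u : Ix,
    (∀ n ∈ basN, prN (wd u) (prN (wd (p.1, p.2, 0, 0)) n) = prN (wd (p.1, p.2, 0, 0)) (prN (wd u) n)) →
    (∀ n ∈ basN, prN (wd u) (prN (wd u) n) = n) → ∀ v : Ix,
    (∀ n ∈ basN, prN (wd v) (prN (wd (p.1, p.2, 0, 0)) n) = prN (wd (p.1, p.2, 0, 0)) (prN (wd v) n)) →
    (∀ n ∈ basN, prN (wd v) (prN (wd v) n) = n) →
    (∀ n ∈ basN, prN (wd u) (prN (wd v) n) = prN (wd v) (prN (wd u) n)) →
    u = v ∨ u = (0, 0, 0, 0) ∨ v = (0, 0, 0, 0) := by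
  decide +kernel

theorem axis_conj_tab : ∀ p q : Fin 3 × Fin 3, axisP p = true → axisP q = true → ∃ w : Ix,
    ∀ n ∈ basN, prN (wd w) (prN (wd (p.1, p.2, 0, 0)) n) = prN (wd (q.1, q.2, 0, 0)) (prN (wd w) n) := by
  decide +kernel

theorem basN_lt : ∀ n ∈ basN, n < 64 := by decide

/-- An equation of `K₄` on numbers. -/
theorem num_of_eq {u v u' v' : Ix} (h : el u * el v = el u' * el v') :
    ∀ n ∈ basN, prN (wd u) (prN (wd v) n) = prN (wd u') (prN (wd v') n) := fun n hn =>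
  ofN_inj (prN_lt _ _ (prN_lt _ _ (basN_lt n hn))) (prN_lt _ _ (prN_lt _ _ (basN_lt n hn))) (by
    rw [← ap_el, ← ap_el, ← ap_el, ← ap_el, ← ap_mul, ← ap_mul, h])

theorem derived_conj {L : Type*} [Group L] {d : L}
    (h : d ∈ ⁅Subgroup.centralizer ({d} : Set L), Subgroup.centralizer ({d} : Set L)⁆) (g : L) :
    g * d * g⁻¹ ∈ ⁅Subgroup.centralizer ({g * d * g⁻¹} : Set L),
      Subgroup.centralizer ({g * d * g⁻¹} : Set L)⁆ := by
  have hle : (Subgroup.centralizer ({d} : Set L)).map (MulAut.conj g).toMonoidHom ≤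
      Subgroup.centralizer ({g * d * g⁻¹} : Set L) := by
    rintro _ ⟨c, hc, rfl⟩
    rw [Subgroup.mem_centralizer_singleton_iff]
    have hc' : Commute c d := Subgroup.mem_centralizer_singleton_iff.1 hc
    exact (hc'.map (MulAut.conj g).toMonoidHom).eq
  refine Subgroup.commutator_mono hle hle ?_
  rw [← Subgroup.map_commutator]
  exact ⟨d, h, rfl⟩

/-- Two elements of order three congruent modulo a normal 2-subgroup are conjugate. -/
theorem conj_of_congr {L : Type*} [Group L] [Finite L] {N : Subgroup L} [hN : N.Normal]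
    (hp : IsPGroup 2 N) {a b : L} (ha : a ^ 3 = 1) (hb : b ^ 3 = 1) (hab : b⁻¹ * a ∈ N) :
    ∃ n : L, n * a * n⁻¹ = b := by
  haveI : Fact (Nat.Prime 2) := ⟨Nat.prime_two⟩
  haveI : Fact (Nat.Prime 3) := ⟨Nat.prime_three⟩
  have h3 : ∀ {x : L}, x ^ 3 = 1 → x ∈ N → x = 1 := by
    intro x hx hxN
    obtain ⟨k, hk⟩ := hp ⟨x, hxN⟩
    exact orderOf_eq_one_iff.1 (Nat.eq_one_of_dvd_coprimes (Nat.Coprime.pow_left k (by norm_num : Nat.Coprime 2 3))
      (orderOf_dvd_of_pow_eq_one (congrArg Subtype.val hk)) (orderOf_dvd_of_pow_eq_one hx))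
  by_cases hb1 : b = 1
  · subst hb1
    exact ⟨1, by rw [h3 ha (by simpa using hab)]; simp⟩
  have hbo : orderOf b = 3 := orderOf_eq_prime hb hb1
  have hne : a ≠ 1 := fun e => hb1 (h3 hb (by simpa [e] using inv_mem hab))
  have hcop : (Nat.card (Subgroup.zpowers b)).Coprime (Nat.card N) := by
    obtain ⟨n, hn⟩ := IsPGroup.iff_card.mp hp
    rw [Nat.card_zpowers, hbo, hn]; exact Nat.Coprime.pow_right n (by norm_num)
  have hle : Subgroup.zpowers a ≤ N ⊔ Subgroup.zpowers b := Subgroup.zpowers_le.2 (by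
    rw [show a = (b * (b⁻¹ * a) * b⁻¹) * b by group]
    exact Subgroup.mul_mem_sup (hN.conj_mem _ hab b) (Subgroup.mem_zpowers b))
  obtain ⟨q, hqN, hqe⟩ := Coprime.exists_conj_eq_of_le_sup (by rw [Subgroup.normalizer_eq_top N]; exact le_top)
    hcop (Or.inr (by haveI := hp.isNilpotent; infer_instance))
    hle (by rw [Nat.card_zpowers, Nat.card_zpowers, hbo, orderOf_eq_prime ha hne])
  refine ⟨q⁻¹, ?_⟩
  have h : q⁻¹ * a * q ∈ Subgroup.zpowers b := by
    have h' : a ∈ MulAut.conj q • Subgroup.zpowers b := hqe.symm ▸ Subgroup.mem_zpowers a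
    rwa [Coprime.mem_conj] at h'
  rw [inv_inv]
  obtain ⟨k, hk⟩ := mem_powers_iff_mem_zpowers.2 h
  have hk' : b ^ k = q⁻¹ * a * q := hk
  have hmem : b⁻¹ * (q⁻¹ * a * q) ∈ N := by
    rw [show b⁻¹ * (q⁻¹ * a * q) = b⁻¹ * q⁻¹ * b * (b⁻¹ * a) * q by group]
    exact mul_mem (mul_mem (by simpa using hN.conj_mem _ (inv_mem hqN) b⁻¹) hab) hqN
  have := h3 (x := b⁻¹ * (q⁻¹ * a * q)) (by
    rw [← hk', (((Commute.refl b).pow_right k).inv_left).mul_pow, inv_pow, hb, inv_one, one_mul, ← pow_mul,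
      mul_comm, pow_mul, hb, one_pow]) hmem
  exact (inv_mul_eq_one.1 this).symm

namespace Sect

variable {G : Type*} [Group G] {S : Std G} {H : Type*} [Group H] (E : Sect S H)

theorem fix_of_comm [Finite G] {p : Fin 3 × Fin 3} (f : Subgroup.centralizer ({E.zb} : Set H) →* K₄)
    (hfι : ∀ k, f (E.ι k) = S.ψ k) {a d : Subgroup.centralizer ({E.zb} : Set H)} (hd : f d = e₄ p)
    (hp1 : p.1 ≠ 0) (hp2 : p.2 ≠ 0) (ha : a ∈ E.R') (hc : a * d = d * a) : a * a = 1 := by
  obtain ⟨r, hr, rfl⟩ := ha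
  obtain ⟨k, rfl⟩ := E.ι_surj d
  have hrR := Subgroup.mem_subgroupOf.1 hr
  have hkz := (S.mem_K.1 k.2).1
  have h1 : E.ι ((r * k) * (k * r)⁻¹) = 1 := by rw [map_mul, map_inv, map_mul, map_mul, hc, mul_inv_cancel]
  have h2 := E.ι_inj (by
    show (r : G) * k * ((k : G) * r)⁻¹ ∈ S.T.Q
    rw [show (r : G) * k * ((k : G) * r)⁻¹ = r * ((k : G) * (r : G)⁻¹ * (k : G)⁻¹) by group]
    exact mul_mem hrR.1 (S.T.data.norm k hkz _ (inv_mem hrR.1))) h1
  have h3 : (r : G) * k = k * r := mul_inv_eq_one.1 h2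
  have hfix : ap (S.T.ρ k) (S.T.c (r : G)) = S.T.c (r : G) := by
    rw [← S.T.ρ_conj k hkz r hrR.1, ← h3, mul_inv_cancel_right]
  have hβ := (S.mem_R.1 hrR).2
  have hfix' : ap (el (p.1, p.2, 0, 0)) (S.T.c (r : G)) = S.T.c (r : G) := by
    have he : π (S.ρK k) = e₄ p := (hfι k).symm.trans hd
    have he' : πfun (S.ρK k) = el (p.1, p.2, 0, 0) := congrArg Subtype.val he
    have hiter : ∀ n : ℕ, ap (β ^ n) (S.T.c (r : G)) = S.T.c (r : G) := by
      intro n
      induction n with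
      | zero => rw [pow_zero, ap_one]
      | succ n ih => rw [pow_succ, ap_mul, hβ, ih]
    rw [← he', πfun, ap_mul, show ap (S.ρK k : IsoGrp qm) (S.T.c (r : G)) = S.T.c (r : G) from hfix]
    refine ap_inj (β ^ kpow (S.ρK k)) ?_
    rw [ap_ap_inv, hiter]
  obtain ⟨n, hn, he⟩ : ∃ n < 64, ofN n = S.T.c (r : G) := ⟨_, toN_lt _, ofN_toN _⟩
  rw [← he, ap_β] at hβ
  rw [← he, ap_el] at hfix'
  have hn0 := diag_fix_tab p hp1 hp2 n hn (ofN_inj (β_lt_tab n hn) hn hβ)
    (ofN_inj (prN_lt _ _ hn) hn hfix')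
  have hr2 : (r : G) * r = 1 := by
    rw [S.T.sq _ hrR.1, ← he, hn0, ofN_zero, map_zero, pw_zero]
  rw [← map_mul, show r * r = 1 from Subtype.ext hr2, map_one]

/-- The images lie in the derived subgroups of their centralisers. -/
theorem image_derived [Finite G] [Finite H] {F : Type} [Field F] [Fintype F]
    (hF : Fintype.card F = 3 ^ 2) (hiso : Nonempty (H ≃* Cfsg.PSU 4 F 3))
    (hone : ∀ x y : H, orderOf x = 2 → orderOf y = 2 → IsConj x y)
    {y : S.K} (hy3 : (y : G) ^ 3 = 1) {q : Fin 3 × Fin 3} (hq : axisP q = true)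
    (hρ : S.T.ρ (y : G) = el (q.1, q.2, 0, 0)) :
    (E.ι y : H) ∈ ⁅Subgroup.centralizer ({(E.ι y : H)} : Set H),
      Subgroup.centralizer ({(E.ι y : H)} : Set H)⁆ := by
  haveI : Fact (Nat.Prime 3) := ⟨Nat.prime_three⟩
  obtain ⟨e⟩ := hiso
  obtain ⟨s0, t0, h0⟩ := exists_spot hF
  have hs := h0.map e.symm
  have hs2 : orderOf (e.symm s0) = 2 := orderOf_eq_prime (by rw [pow_two]; exact hs.1) hs.2.1
  obtain ⟨g, hg⟩ := isConj_iff.1 (hone _ _ hs2 E.orderOf_zb)
  have h := hs.map (MulAut.conj g)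
  rw [show MulAut.conj g (e.symm s0) = E.zb from hg] at h
  obtain ⟨-, -, ht3, ht1, hst, ⟨u, v, hu, hv, huv⟩, a0, b0, ha, hb, haa, hbb, hba⟩ := h
  set t := MulAut.conj g (e.symm t0)
  have htD : t ∈ ⁅Subgroup.centralizer ({t} : Set H), Subgroup.centralizer ({t} : Set H)⁆ := by
    have h' : t = ⁅u, v⁆ := by
      rw [commutatorElement_def, ← huv]; group
    have hmem := Subgroup.commutator_mem_commutator (H₁ := Subgroup.centralizer ({t} : Set H))
      (H₂ := Subgroup.centralizer ({t} : Set H)) (g₁ := u) (g₂ := v)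
      (Subgroup.mem_centralizer_singleton_iff.2 hu.eq) (Subgroup.mem_centralizer_singleton_iff.2 hv.eq)
    rwa [← h'] at hmem
  have haz : a0 * E.zb = E.zb * a0 := by rw [← haa, mul_assoc]
  have hbz : b0 * E.zb = E.zb * b0 := by rw [← hbb, mul_assoc]
  let a : Subgroup.centralizer ({E.zb} : Set H) := ⟨a0, Subgroup.mem_centralizer_singleton_iff.2 haz⟩
  let b : Subgroup.centralizer ({E.zb} : Set H) := ⟨b0, Subgroup.mem_centralizer_singleton_iff.2 hbz⟩
  let d : Subgroup.centralizer ({E.zb} : Set H) :=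
    ⟨t, Subgroup.mem_centralizer_singleton_iff.2 hst.eq.symm⟩
  let zc : Subgroup.centralizer ({E.zb} : Set H) := ⟨E.zb, Subgroup.mem_centralizer_singleton_iff.2 rfl⟩
  obtain ⟨f, -, hfk, hfι⟩ := E.exists_quot
  haveI := E.R'_normal
  have hR2 : IsPGroup 2 E.R' := IsPGroup.of_card E.card_R'
  have hzR : zc ∈ E.R' := ⟨⟨S.T.z, S.R_le_K S.z_mem_R⟩, Subgroup.mem_subgroupOf.2 S.z_mem_R, rfl⟩
  have hzne : E.zb ≠ 1 := fun h => by have := E.orderOf_zb; rw [h, orderOf_one] at this; omega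
  obtain ⟨p, hp⟩ : f d ∈ E₄ := mem_E₄_of_nine (by
    rw [← map_pow, show d ^ 9 = 1 from Subtype.ext (show t ^ 9 = 1 by
      rw [show (9 : ℕ) = 3 * 3 from rfl, pow_mul, ht3, one_pow]), map_one])
  have hp0 : p ≠ 0 := by
    intro e
    rw [e, e₄_zero] at hp
    refine ht1 ?_
    obtain ⟨k, hk⟩ := hR2 ⟨d, (hfk d).1 hp.symm⟩
    exact orderOf_eq_one_iff.1 (Nat.eq_one_of_dvd_coprimes (Nat.Coprime.pow_left k (by norm_num : Nat.Coprime 2 3))
      (orderOf_dvd_of_pow_eq_one (congrArg Subtype.val (congrArg Subtype.val hk)))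
      (orderOf_dvd_of_pow_eq_one ht3))
  have hax : axisP p = true := by
    refine (axis_cases p hp0).resolve_right fun ⟨hp1, hp2⟩ => ?_
    have had : a * d = d * a := Subtype.ext ha.eq
    have hbd : b * d = d * b := Subtype.ext hb.eq
    have hfix := fun {c : Subgroup.centralizer ({E.zb} : Set H)} =>
      E.fix_of_comm f hfι (a := c) hp.symm hp1 hp2
    have hna : f a ≠ 1 := fun e => hzne (by
      rw [← haa]; exact congrArg Subtype.val (hfix ((hfk a).1 e) had))
    have hnb : f b ≠ 1 := fun e => hzne (by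
      rw [← hbb]; exact congrArg Subtype.val (hfix ((hfk b).1 e) hbd))
    have hab : f a * f b = f b * f a := by
      rw [← map_mul, ← map_mul, show b * a = a * b * zc from Subtype.ext hba, map_mul _ (a * b),
        (hfk zc).2 hzR, mul_one]
    have hne : f a ≠ f b := fun e => by
      have hm : a * b⁻¹ ∈ E.R' := (hfk _).1 (by rw [map_mul, map_inv, e, mul_inv_cancel])
      have h1 := hfix hm (Commute.mul_left had (Commute.inv_left hbd)).eq
      have hzz : (E.zb : H) * E.zb = 1 := by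
        rw [← pow_two, ← E.orderOf_zb, pow_orderOf_eq_one]
      have hb4 : (b0)⁻¹ = b0 * E.zb := inv_eq_of_mul_eq_one_right (by
        rw [← mul_assoc, hbb, hzz])
      have h2 : a0 * b0 * E.zb * (a0 * b0 * E.zb) = 1 := by
        have := congrArg Subtype.val h1
        simpa [a, b, hb4, mul_assoc] using this
      refine hzne ?_
      have h3 : a0 * b0 * E.zb * (a0 * b0 * E.zb) = E.zb := by
        calc a0 * b0 * E.zb * (a0 * b0 * E.zb) = a0 * b0 * (E.zb * a0) * b0 * E.zb := by group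
          _ = a0 * (b0 * a0) * E.zb * b0 * E.zb := by rw [← haz]; group
          _ = (a0 * a0) * b0 * (E.zb * E.zb) * b0 * E.zb := by rw [hba]; group
          _ = E.zb := by rw [hzz, mul_one, haa, mul_assoc E.zb, hbb, hzz, one_mul]
      rw [← h3, h2]
    obtain ⟨wu, hwu⟩ := exists_el_K₄ (f a).2
    obtain ⟨wv, hwv⟩ := exists_el_K₄ (f b).2
    have hc : ∀ {c : Subgroup.centralizer ({E.zb} : Set H)} {w : Ix}, (f c : IsoGrp qm) = el w →
        c * d = d * c → c * c = zc →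
        (∀ n ∈ basN, prN (wd w) (prN (wd (p.1, p.2, 0, 0)) n) = prN (wd (p.1, p.2, 0, 0)) (prN (wd w) n)) ∧
        ∀ n ∈ basN, prN (wd w) (prN (wd w) n) = n := by
      intro c w hw hcd hcc
      refine ⟨num_of_eq ?_, fun n hn => ?_⟩
      · have := congrArg (fun x => ((f x : K₄) : IsoGrp qm)) hcd
        simp only [map_mul, Subgroup.coe_mul, hw, ← hp] at this
        exact this
      · have := congrArg (fun x => ((f x : K₄) : IsoGrp qm)) hcc
        simp only [map_mul, Subgroup.coe_mul, hw, (hfk zc).2 hzR, Subgroup.coe_one] at this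
        refine ofN_inj (prN_lt _ _ (prN_lt _ _ (basN_lt n hn))) (basN_lt n hn) ?_
        rw [← ap_el, ← ap_el, ← ap_mul, this, ap_one]
    obtain ⟨hu1, hu2⟩ := hc hwu had (Subtype.ext haa)
    obtain ⟨hv1, hv2⟩ := hc hwv hbd (Subtype.ext hbb)
    rcases diag_four_tab p hp1 hp2 wu hu1 hu2 wv hv1 hv2 (num_of_eq (by
      rw [← hwu, ← hwv]; exact congrArg Subtype.val hab)) with e | e | e
    · exact hne (Subtype.ext (by rw [hwu, hwv, e]))
    · exact hna (Subtype.ext (by rw [hwu, e, el_zero]; rfl))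
    · exact hnb (Subtype.ext (by rw [hwv, e, el_zero]; rfl))
  obtain ⟨w, hw⟩ := axis_conj_tab p q hax hq
  obtain ⟨k, hk⟩ := S.ψ_surj ⟨el w, el_mem_K₄ w⟩
  have hfy : f (E.ι y) = e₄ q := by
    rw [hfι]
    show π (S.ρK y) = _
    rw [show S.ρK y = ⟨el (q.1, q.2, 0, 0), el_mem_Cβ _⟩ from Subtype.ext hρ]
    exact π_of_mem (el_mem_K₄ _)
  have hfd : f (E.ι k * d * (E.ι k)⁻¹) = e₄ q := by
    rw [map_mul, map_mul, map_inv, hfι, hk, ← hp, mul_inv_eq_iff_eq_mul]
    refine Subtype.ext (eq_of_basis fun n hn => ?_)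
    show ap (el w * el (p.1, p.2, 0, 0)) (ofN n) = ap (el (q.1, q.2, 0, 0) * el w) (ofN n)
    rw [ap_mul, ap_mul, ap_el, ap_el, ap_el, ap_el, hw n hn]
  obtain ⟨n, hn⟩ := conj_of_congr hR2 (a := E.ι k * d * (E.ι k)⁻¹) (b := E.ι y)
    (by rw [conj_pow, show d ^ 3 = 1 from Subtype.ext ht3, mul_one, mul_inv_cancel])
    (by rw [← map_pow, show y ^ 3 = 1 from Subtype.ext hy3, map_one])
    ((hfk _).1 (by rw [map_mul, map_inv, hfd, hfy, inv_mul_cancel]))
  have hres := derived_conj (derived_conj htD ((E.ι k : Subgroup.centralizer ({E.zb} : Set H)) : H)) (n : H)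
  have hn' := congrArg Subtype.val hn
  simp only [Subgroup.coe_mul, Subgroup.coe_inv] at hn'
  rwa [hn'] at hres

end Sect

end Cfsg.Agent.SuzThree
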