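/-
The centraliser of the element of order three does not split (helper18).

* `Std.mem_derived` : elements of order three of the stabiliser lie in the derived subgroup of `C(x)`
* `UInput`, `x_mem_derived` : `x` lies in the derived subgroup of its centraliser
* `quasisimple` : the centraliser is quasisimple
-/
import Cfsg.Agent.Lib.SuzThree.Tau
import Cfsg.Agent.Lib.SuzThree.Frm
import Cfsg.Agent.Lib.Unitary.Simple

set_option autoImplicit false
open scoped commutatorElement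

namespace Cfsg.Agent.SuzThree

open Cfsg.Agent.SuzType Cfsg.Agent.Orth Cfsg.Agent.LargeExtraspecial
open QuadraticMap (polar)

universe u

theorem inv_E_tab : ∀ p : Fin 3 × Fin 3, ∀ n ∈ basN,
    prN (wd (0, 0, 1, 0)) (prN (wd (p.1, p.2, 0, 0)) n) =
      prN (wd (-p.1, -p.2, 0, 0)) (prN (wd (0, 0, 1, 0)) n) := by
  decide +kernel

theorem img_β_tab : ∀ n < 64, prN [16, 32] n ^^^ n = 0 ∨ qN (prN [16, 32] n ^^^ n) = true := by
  decide +kernel

theorem img_diag_tab : ∀ p : Fin 3 × Fin 3, p.1 ≠ 0 → p.2 ≠ 0 → ∃ n < 64,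
    prN (wd (p.1, p.2, 0, 0)) n ^^^ n ≠ 0 ∧ qN (prN (wd (p.1, p.2, 0, 0)) n ^^^ n) = false := by
  decide +kernel

theorem sep_tab : ∀ n < 64, prN [16, 32] (prN (wd (1, 0, 0, 0)) n ^^^ n) =
    prN (wd (1, 0, 0, 0)) n ^^^ n := by
  decide +kernel

theorem β_t₂_sep (u : V6) : ap β (ap t₂ u + u) = ap t₂ u + u := by
  obtain ⟨n, hn, rfl⟩ : ∃ n < 64, ofN n = u := ⟨toN u, toN_lt u, ofN_toN u⟩
  rw [t₂, ap_el, ← ofN_xor, ap_β, sep_tab n hn]

/-- A conjugate of `β` has only norm one vectors in its image. -/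
theorem img_of_conj {g ω : IsoGrp qm} (h : ω * g * ω⁻¹ = β) (v : V6) :
    ap g v + v = 0 ∨ qm (ap g v + v) = 1 := by
  have hg : g = ω⁻¹ * β * ω := by rw [← h]; group
  have e : ap g v + v = ap ω⁻¹ (ap β (ap ω v) + ap ω v) := by
    rw [hg, map_add, ap_inv_ap, ap_mul, ap_mul]
  obtain ⟨n, hn, he⟩ : ∃ n < 64, ofN n = ap ω v := ⟨_, toN_lt _, ofN_toN _⟩
  rw [e, ← he, ap_β, ← ofN_xor, Q_ap, qm_ofN]
  rcases img_β_tab n hn with h0 | h1
  · left; rw [h0, ofN_zero, map_zero]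
  · right; rw [h1]; rfl

theorem diag_not_conj {p : Fin 3 × Fin 3} (h1 : p.1 ≠ 0) (h2 : p.2 ≠ 0) {ω : IsoGrp qm}
    (h : ω * el (p.1, p.2, 0, 0) * ω⁻¹ = β) : False := by
  obtain ⟨n, hn, hne, hq⟩ := img_diag_tab p h1 h2
  have hlt : prN (wd (p.1, p.2, 0, 0)) n ^^^ n < 64 :=
    Nat.xor_lt_two_pow (n := 6) (prN_lt _ n hn) hn
  have h' := img_of_conj h (ofN n)
  rw [ap_el, ← ofN_xor, qm_ofN, hq] at h'
  rcases h' with h' | h'
  · exact hne (ofN_inj hlt (by norm_num) (h'.trans ofN_zero.symm))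
  · exact absurd h' (by decide)

namespace Std

variable {G : Type*} [Group G] (S : Std G)

/-- The centraliser of `x`. -/
abbrev C : Subgroup G := Subgroup.centralizer ({S.x} : Set G)

theorem K_le_C : S.K ≤ S.C := inf_le_right

theorem x_pow_comm (i : ℕ) {c : G} (hc : c ∈ S.C) : c * S.x ^ i = S.x ^ i * c :=
  ((show Commute c S.x from Subgroup.mem_centralizer_singleton_iff.1 hc).pow_right i).eq

theorem x_pow_cases (i : ℕ) : S.x ^ i = 1 ∨ S.x ∈ Subgroup.zpowers (S.x ^ i) := by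
  rw [← Nat.div_add_mod i 3, pow_add, pow_mul, S.hx.cube, one_pow, one_mul]
  have hlt : i % 3 < 3 := Nat.mod_lt _ (by norm_num)
  interval_cases i % 3
  · left; rw [pow_zero]
  · right; rw [pow_one]; exact Subgroup.mem_zpowers _
  · right
    refine ⟨2, ?_⟩
    show (S.x ^ 2) ^ (2 : ℤ) = S.x
    rw [zpow_two, ← pow_add, pow_succ, S.hx.cube, one_mul]

theorem exists_derived [Finite G] {H : Type*} [Group H] (E : Sect S H) (hH : commutator H = ⊤)
    {c : G} (hc : c ∈ S.C) : ∃ i : ℕ, c * (S.x ^ i)⁻¹ ∈ ⁅S.C, S.C⁆ := by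
  have hmap : (commutator S.C).map E.φ = ⊤ := by
    rw [commutator_def, Subgroup.map_commutator, Subgroup.map_top_of_surjective _ E.surj,
      ← commutator_def, hH]
  obtain ⟨d, hd, he⟩ : E.φ ⟨c, hc⟩ ∈ (commutator S.C).map E.φ := hmap ▸ Subgroup.mem_top _
  obtain ⟨i, hi⟩ := S.mem_zpowers_x.1
    ((E.ker (d⁻¹ * ⟨c, hc⟩)).1 (by rw [map_mul, map_inv, he, inv_mul_cancel]))
  refine ⟨i, ?_⟩
  have h' : (d : G)⁻¹ * c = S.x ^ i := hi
  rw [← h']
  have hd' : (d : G) ∈ ⁅S.C, S.C⁆ := by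
    rw [← Subgroup.map_subtype_commutator]
    exact ⟨d, hd, rfl⟩
  rwa [show c * ((d : G)⁻¹ * c)⁻¹ = (d : G) by group]

theorem R_le_derived [Finite G] {H : Type*} [Group H] (E : Sect S H) (hH : commutator H = ⊤) :
    S.R ≤ ⁅S.C, S.C⁆ := by
  intro r hr
  obtain ⟨i, hi⟩ := S.exists_derived E hH (S.K_le_C (S.R_le_K hr))
  have hr4 : r ^ 4 = 1 := by
    rw [show (4 : ℕ) = 2 + 2 from rfl, pow_add, pow_two, S.T.sq _ hr.1, pw_sq S.T.z_sq]
  have hc : Commute r (S.x ^ i)⁻¹ :=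
    ((show Commute r S.x from Subgroup.mem_centralizer_singleton_iff.1 hr.2).pow_right i).inv_right
  have h1 := pow_mem hi 4
  rw [hc.mul_pow, hr4, one_mul, inv_pow, inv_mem_iff, ← pow_mul,
    show i * 4 = 3 * i + i by ring, pow_add, pow_mul, S.hx.cube, one_pow, one_mul] at h1
  have h5 := mul_mem hi h1
  rwa [inv_mul_cancel_right] at h5

/-- Elements of order three over `E₄` lie in the derived subgroup. -/
theorem mem_derived [Finite G] {H : Type*} [Group H] (E : Sect S H) (hH : commutator H = ⊤)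
    {y : G} (hy : y ∈ S.K) {p : Fin 3 × Fin 3} (hρ : S.T.ρ y = el (p.1, p.2, 0, 0)) :
    y ∈ ⁅S.C, S.C⁆ := by
  obtain ⟨⟨n, hn⟩, hn'⟩ := S.ρK_surj ⟨el (0, 0, 1, 0), el_mem_Cβ _⟩
  have hρn : S.T.ρ n = el (0, 0, 1, 0) := congrArg Subtype.val hn'
  have hnz := (S.mem_K.1 hn).1
  have hyz := (S.mem_K.1 hy).1
  set m := n * y * n⁻¹ * y⁻¹
  have hm : m ∈ ⁅S.C, S.C⁆ :=
    Subgroup.commutator_mem_commutator (S.K_le_C hn) (S.K_le_C hy)
  have hmK : m ∈ S.K := mul_mem (mul_mem (mul_mem hn hy) (inv_mem hn)) (inv_mem hy)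
  have hconj : el (0, 0, 1, 0) * el (p.1, p.2, 0, 0) * (el (0, 0, 1, 0))⁻¹ = el (-p.1, -p.2, 0, 0) := by
    rw [mul_inv_eq_iff_eq_mul]
    exact eq_of_basis fun k hk => by rw [ap_mul, ap_mul, ap_el, ap_el, ap_el, ap_el, inv_E_tab p k hk]
  have hρm : S.T.ρ m = el (p.1, p.2, 0, 0) := by
    have h1 : n * y * S.T.z = S.T.z * (n * y) := (Commute.mul_left hnz hyz).eq
    have h2 : n * y * n⁻¹ * S.T.z = S.T.z * (n * y * n⁻¹) :=
      (Commute.mul_left h1 (Commute.inv_left hnz)).eq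
    rw [S.T.ρ_mul _ _ h2 (Commute.inv_left hyz).eq, S.T.ρ_mul _ _ h1 (Commute.inv_left hnz).eq,
      S.T.ρ_mul _ _ hnz hyz, S.T.ρ_inv hnz, S.T.ρ_inv hyz, hρn, hρ, hconj, mul_inv_eq_iff_eq_mul,
      el_E_mul]
    congr 2
    · exact (by decide : ∀ a : Fin 3, -a = a + a) _
    · congr 1
      exact (by decide : ∀ a : Fin 3, -a = a + a) _
  have hr : m⁻¹ * y ∈ S.R := by
    refine ⟨(S.T.ρ_ker _ ((S.mem_K.1 (mul_mem (inv_mem hmK) hy)).1)).1 ?_, mul_mem (Subgroup.inv_mem _ hmK.2) hy.2⟩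
    rw [S.T.ρ_mul _ _ (Commute.inv_left (S.mem_K.1 hmK).1).eq hyz, S.T.ρ_inv (S.mem_K.1 hmK).1, hρm, hρ,
      inv_mul_cancel]
  have := mul_mem hm (S.R_le_derived E hH hr)
  rwa [mul_inv_cancel_left] at this

end Std

variable {G : Type u} [Group G]

namespace Std

variable (S : Std G)

instance zpowers_normal : ((Subgroup.zpowers S.x).subgroupOf S.C).Normal :=
  ⟨fun w hw c => by
    rw [Subgroup.mem_subgroupOf] at hw ⊢
    obtain ⟨i, hi⟩ := hw
    show (c : G) * w * (c : G)⁻¹ ∈ _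
    rw [← hi, ((show Commute (c : G) S.x from
      Subgroup.mem_centralizer_singleton_iff.1 c.2).zpow_right i).eq, mul_inv_cancel_right]
    exact ⟨i, rfl⟩⟩

/-- The section. -/
abbrev Quot : Type u := ↥S.C ⧸ (Subgroup.zpowers S.x).subgroupOf S.C

/-- The canonical surjection. -/
noncomputable def sect : Sect S S.Quot :=
  ⟨QuotientGroup.mk' _, QuotientGroup.mk'_surjective _,
    fun c => (QuotientGroup.eq_one_iff c).trans Subgroup.mem_subgroupOf⟩

end Std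

/-- The inputs on the sections: the unitary group and its class of involutions. -/
def UInput (G : Type u) [Group G] (F : Type) [Field F] [Fintype F] : Prop :=
  ∀ S : Std G, Nonempty (S.Quot ≃* Cfsg.PSU 4 F 3) ∧
    ∀ x y : S.Quot, orderOf x = 2 → orderOf y = 2 → IsConj x y

theorem commutator_of_psu {F : Type} [Field F] [Fintype F] (hF : Fintype.card F = 3 ^ 2) {H : Type*}
    [Group H] (h : Nonempty (H ≃* Cfsg.PSU 4 F 3)) : commutator H = ⊤ := by
  obtain ⟨e⟩ := h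
  have hs : commutator (Cfsg.SU 4 F 3) = ⊤ :=
    Unitary.commutator_SU_eq_top hF (Or.inl (le_refl 4))
  have hp : commutator (Cfsg.PSU 4 F 3) = ⊤ := by
    rw [commutator_def, ← Subgroup.map_top_of_surjective (QuotientGroup.mk' _)
      (QuotientGroup.mk'_surjective (Subgroup.center (Cfsg.SU 4 F 3))), ← Subgroup.map_commutator,
      ← commutator_def, hs]
  rw [commutator_def, ← Subgroup.map_top_of_surjective e.symm.toMonoidHom e.symm.surjective,
    ← Subgroup.map_commutator, ← commutator_def, hp]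

/-- `x` lies in the derived subgroup of its centraliser. -/
theorem x_mem_derived [Finite G] {F : Type} [Field F] [Fintype F] (hF : Fintype.card F = 3 ^ 2)
    (hU : UInput G F) (S : Std G) : S.x ∈ ⁅S.C, S.C⁆ := by
  by_contra hx
  obtain ⟨ω, hω, hωt⟩ := t₂_conj
  obtain ⟨y₂, hy₂K, hy₂3, hy₂ρ⟩ := S.exists_lift (ω := t₂) (el_mem_K₄ _) t₂_cube
  obtain ⟨hy₂z, hy₂x⟩ := S.mem_K.1 hy₂K
  have hT₂ : Thr S.T y₂ := by
    refine ⟨hy₂z, hy₂3, ?_⟩
    rw [hy₂ρ, ← S.hx.fix, S.hρ]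
    refine Nat.card_congr (Equiv.subtypeEquiv
      ⟨ap ω, ap ω⁻¹, ap_inv_ap ω, ap_ap_inv ω⟩ fun v => ?_)
    show ap t₂ v = v ↔ ap β (ap ω v) = ap ω v
    rw [← hωt, ap_mul, ap_mul, ap_inv_ap]
    exact ⟨fun h => by rw [h], fun h => ap_inj ω h⟩
  -- a conjugation taking `x` to `y₂`
  obtain ⟨g, hg, hgx⟩ : ∃ g : G, g * S.T.z = S.T.z * g ∧ g * S.x * g⁻¹ = y₂ := by
    obtain ⟨h, hh, hhρ⟩ := S.T.ρ_surj _ (inv_mem hω)
    let L := Subgroup.centralizer ({S.T.z} : Set G)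
    let N : Subgroup L := S.T.Q.subgroupOf L
    haveI : N.Normal := ⟨fun q hq k => Subgroup.mem_subgroupOf.2
      (S.T.data.norm k (Subgroup.mem_centralizer_singleton_iff.1 k.2) q (Subgroup.mem_subgroupOf.1 hq))⟩
    have hp : IsPGroup 2 N := (IsPGroup.of_card S.T.card_Q).comap_of_injective L.subtype L.subtype_injective
    let a : L := ⟨h * S.x * h⁻¹, mul_mem (mul_mem (Subgroup.mem_centralizer_singleton_iff.2 hh)
      (Subgroup.mem_centralizer_singleton_iff.2 S.hx.hz)) (inv_mem (Subgroup.mem_centralizer_singleton_iff.2 hh))⟩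
    let b : L := ⟨y₂, Subgroup.mem_centralizer_singleton_iff.2 hy₂z⟩
    obtain ⟨n, hn⟩ := conj_of_congr hp (a := a) (b := b)
      (Subtype.ext (show (h * S.x * h⁻¹) ^ 3 = 1 by rw [conj_pow, S.hx.cube, mul_one, mul_inv_cancel]))
      (Subtype.ext hy₂3) (Subgroup.mem_subgroupOf.2 (by
        have hhx : h * S.x * S.T.z = S.T.z * (h * S.x) := (Commute.mul_left hh S.hx.hz).eq
        refine (S.T.ρ_ker _ (Subgroup.mem_centralizer_singleton_iff.1 (b⁻¹ * a).2)).1 ?_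
        show S.T.ρ (y₂⁻¹ * (h * S.x * h⁻¹)) = 1
        rw [S.T.ρ_mul _ _ (Commute.inv_left hy₂z).eq
            (Commute.mul_left hhx (Commute.inv_left hh)).eq, S.T.ρ_inv hy₂z,
          S.T.ρ_mul _ _ hhx (Commute.inv_left hh).eq, S.T.ρ_mul _ _ hh S.hx.hz, S.T.ρ_inv hh, hhρ, S.hρ,
          hy₂ρ, inv_inv, ← hωt]
        group))
    refine ⟨n * h, (Commute.mul_left (Subgroup.mem_centralizer_singleton_iff.1 n.2) hh).eq, ?_⟩
    have hn' : (n : G) * (h * S.x * h⁻¹) * (n : G)⁻¹ = y₂ := congrArg Subtype.val hn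
    rw [← hn']; group
  obtain ⟨S₂, hx₂, hz₂, -, -, -, ω₂, hω₂⟩ := exists_std hT₂
  have hy₂d : S₂.x ∉ ⁅S₂.C, S₂.C⁆ := by
    intro h
    have hle : S₂.C.map (MulAut.conj g⁻¹).toMonoidHom ≤ S.C := by
      rintro _ ⟨c, hc, rfl⟩
      rw [Subgroup.mem_centralizer_singleton_iff]
      have h := (show Commute c y₂ from hx₂ ▸ Subgroup.mem_centralizer_singleton_iff.1 hc).map
        (MulAut.conj g⁻¹).toMonoidHom
      rw [show (MulAut.conj g⁻¹).toMonoidHom y₂ = S.x by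
        show g⁻¹ * y₂ * g⁻¹⁻¹ = S.x
        rw [← hgx]; group] at h
      exact h.eq
    refine hx (Subgroup.commutator_mono hle hle ?_)
    rw [← Subgroup.map_commutator]
    refine ⟨S₂.x, h, ?_⟩
    show g⁻¹ * S₂.x * g⁻¹⁻¹ = S.x
    rw [hx₂, ← hgx]; group
  -- `x` in the new coordinates
  have hxK : S.x ∈ S₂.K := S₂.mem_K.2 ⟨by rw [hz₂]; exact S.hx.hz, by rw [hx₂]; exact hy₂x.symm⟩
  have hxz₂ : S.x * S₂.T.z = S₂.T.z * S.x := (S₂.mem_K.1 hxK).1
  have hρx : S₂.T.ρ S.x = ω₂ * β * ω₂⁻¹ := by rw [hω₂, S.hρ]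
  have hρy : β = ω₂ * t₂ * ω₂⁻¹ := by rw [← S₂.hρ, hx₂, hω₂, hy₂ρ]
  have hfix : S₂.T.ρ S.x ∈ K₄ := by
    refine ⟨S₂.ρ_comm hxK, ?_⟩
    have hpa : ap β pb + pb = pa := by rw [β_pb, add_assoc, ZModModule.add_self, add_zero]
    have e : ap β pb + pb = ap ω₂ (ap t₂ (ap ω₂⁻¹ pb) + ap ω₂⁻¹ pb) := by
      rw [map_add, ap_ap_inv, ← ap_mul, ← ap_mul, ← hρy]
    rw [← hpa, e, hρx, ap_mul, ap_mul, ap_inv_ap, β_t₂_sep]
  have h3 : (⟨S₂.T.ρ S.x, hfix⟩ : K₄) ^ 9 = 1 := Subtype.ext (by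
    show S₂.T.ρ S.x ^ 9 = 1
    rw [← ρ_pow S₂.T hxz₂, show (9 : ℕ) = 3 * 3 from rfl, pow_mul, S.hx.cube, one_pow, S₂.T.ρ_one])
  obtain ⟨q, hq⟩ := mem_E₄_of_nine h3
  have hρq : S₂.T.ρ S.x = el (q.1, q.2, 0, 0) := (congrArg Subtype.val hq).symm
  have hax : axisP q = true := by
    refine (axis_cases q ?_).resolve_right fun ⟨h1, h2⟩ => diag_not_conj h1 h2 (ω := ω₂⁻¹) (by
      rw [← hρq, hρx]; group)
    rintro rfl
    rw [show el ((0 : Fin 3 × Fin 3).1, (0 : Fin 3 × Fin 3).2, 0, 0) = 1 from el_zero, hρx,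
      conj_eq_one_iff] at hρq
    have := S.ρ_pow_x 1
    rw [pow_one, pow_one, hρq] at this
    exact S.hx.ne_one (by
      have hQ := (S.T.ρ_ker _ S.hx.hz).1 this
      have := S.eq_one_of_pow_mem (i := 1) (by rwa [pow_one])
      rwa [pow_one] at this)
  have hH : commutator S₂.Quot = ⊤ := commutator_of_psu hF (hU S₂).1
  have hxD : S.x ∈ ⁅S₂.C, S₂.C⁆ := S₂.mem_derived S₂.sect hH hxK hρq
  have hder := S₂.sect.image_derived hF (hU S₂).1 (hU S₂).2 (y := ⟨S.x, hxK⟩) S.hx.cube hax hρq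
  set t := (S₂.sect.ι ⟨S.x, hxK⟩ : S₂.Quot)
  -- the preimage of the centraliser of the image
  let P : Subgroup S₂.C := (Subgroup.centralizer ({t} : Set S₂.Quot)).comap S₂.sect.φ
  let xC : S₂.C := ⟨S.x, S₂.K_le_C hxK⟩
  have htx : t = S₂.sect.φ xC := rfl
  have hnox : ∀ i : ℕ, S₂.x ^ i ∈ ⁅S₂.C, S₂.C⁆ → S₂.x ^ i = 1 := fun i hi =>
    (S₂.x_pow_cases i).resolve_right fun hm => hy₂d (by
      obtain ⟨k, hk⟩ := hm
      rw [← hk]; exact zpow_mem hi k)
  have hP : P.map S₂.C.subtype ≤ S.C := by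
    rintro _ ⟨p, hp, rfl⟩
    rw [Subgroup.mem_centralizer_singleton_iff]
    have h1 : S₂.sect.φ p * S₂.sect.φ xC = S₂.sect.φ xC * S₂.sect.φ p := by
      rw [← htx]; exact Subgroup.mem_centralizer_singleton_iff.1 hp
    obtain ⟨i, hi⟩ := S₂.mem_zpowers_x.1 ((S₂.sect.ker (p * xC * p⁻¹ * xC⁻¹)).1 (by
      simp only [map_mul, map_inv]
      rw [h1]; group))
    have hi' : (p : G) * S.x * (p : G)⁻¹ * S.x⁻¹ = S₂.x ^ i := hi
    have h2 := hnox i (hi' ▸ Subgroup.commutator_mem_commutator p.2 xC.2)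
    rw [h2] at hi'
    exact mul_inv_eq_iff_eq_mul.1 (mul_inv_eq_one.1 hi')
  have hPmap : P.map S₂.sect.φ = Subgroup.centralizer ({t} : Set S₂.Quot) :=
    Subgroup.map_comap_eq_self_of_surjective S₂.sect.surj _
  rw [← hPmap, ← Subgroup.map_commutator] at hder
  obtain ⟨m, hm, hmt⟩ := hder
  obtain ⟨i, hi⟩ := S₂.mem_zpowers_x.1 ((S₂.sect.ker (m⁻¹ * xC)).1 (by
    rw [map_mul, map_inv, hmt, htx, inv_mul_cancel]))
  have hi' : (m : G)⁻¹ * S.x = S₂.x ^ i := hi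
  have hm1 : (m : G) ∈ (⁅P, P⁆).map S₂.C.subtype := ⟨m, hm, rfl⟩
  rw [Subgroup.map_commutator] at hm1
  have hm2 : (m : G) ∈ ⁅S₂.C, S₂.C⁆ :=
    Subgroup.commutator_mono (Subgroup.map_subtype_le _) (Subgroup.map_subtype_le _) hm1
  rw [hnox i (hi' ▸ mul_mem (inv_mem hm2) hxD), inv_mul_eq_one] at hi'
  exact hx (hi' ▸ Subgroup.commutator_mono hP hP hm1)

/-- The centraliser is quasisimple. -/
theorem quasisimple [Finite G] {F : Type} [Field F] [Fintype F] (hF : Fintype.card F = 3 ^ 2)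
    (hU : UInput G F) (S : Std G) : Cfsg.IsQuasisimple ↥S.C := by
  obtain ⟨e⟩ := (hU S).1
  haveI : IsSimpleGroup (Cfsg.PSU 4 F 3) := Unitary.isSimpleGroup_PSU hF (Or.inl (le_refl 4))
  haveI : IsSimpleGroup S.Quot := e.isSimpleGroup
  have hH := commutator_of_psu hF (hU S).1
  have hx := x_mem_derived hF hU S
  have hperf : commutator ↥S.C = ⊤ := by
    refine Subgroup.map_injective S.C.subtype_injective ?_
    rw [Subgroup.map_subtype_commutator, ← MonoidHom.range_eq_map, Subgroup.range_subtype]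
    refine le_antisymm (Subgroup.commutator_le.2 fun a ha b hb =>
      mul_mem (mul_mem (mul_mem ha hb) (inv_mem ha)) (inv_mem hb)) fun c hc => ?_
    obtain ⟨i, hi⟩ := S.exists_derived S.sect hH hc
    have := mul_mem hi (pow_mem hx i)
    rwa [inv_mul_cancel_right] at this
  have hcen : Subgroup.center ↥S.C = (Subgroup.zpowers S.x).subgroupOf S.C := by
    refine le_antisymm (fun c hc => ?_) fun c hc => Subgroup.mem_center_iff.2 fun d => Subtype.ext ?_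
    swap
    · obtain ⟨i, hi⟩ := Subgroup.mem_subgroupOf.1 hc
      show (d : G) * c = c * d
      rw [← hi]
      exact ((show Commute (d : G) S.x from Subgroup.mem_centralizer_singleton_iff.1 d.2).zpow_right i).eq
    have hn := (inferInstance : (Subgroup.center ↥S.C).Normal).map S.sect.φ S.sect.surj
    rcases hn.eq_bot_or_eq_top with h | h
    · exact Subgroup.mem_subgroupOf.2
        ((S.sect.ker c).1 ((Subgroup.eq_bot_iff_forall _).1 h _ ⟨c, hc, rfl⟩))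
    · exfalso
      refine bot_ne_top (α := Subgroup S.Quot) (Eq.trans ?_ hH)
      rw [eq_comm, _root_.commutator_eq_bot_iff_center_eq_top, Subgroup.eq_top_iff']
      intro a
      refine Subgroup.mem_center_iff.2 fun b => ?_
      obtain ⟨b, rfl⟩ := S.sect.surj b
      obtain ⟨w, hw, rfl⟩ : a ∈ (Subgroup.center ↥S.C).map S.sect.φ := h ▸ Subgroup.mem_top a
      rw [← map_mul, ← map_mul, Subgroup.mem_center_iff.1 hw b]
  exact ⟨⟨hperf⟩, ((QuotientGroup.quotientMulEquivOfEq hcen).isSimpleGroup)⟩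

end Cfsg.Agent.SuzThree
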