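/-
The centraliser and normaliser of an element of order three in a group of Suzuki type, given the
characterisation of the unitary group and its class of involutions (helper18).

* `Std.index_two` : the index in the normaliser
* `RecInput`, `ClassInput`, `main` : the inputs and the result
-/
import Cfsg.Agent.Lib.SuzThree.Hyp
import Cfsg.Agent.Lib.SuzThree.Split
import Cfsg.Agent.Lib.Components.Quasisimple
import Cfsg.Agent.Lib.Cores.Fitting

set_option autoImplicit false
open scoped commutatorElement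

namespace Cfsg.Agent.SuzThree

open Cfsg.Agent.SuzType Cfsg.Agent.Orth Cfsg.Agent.LargeExtraspecial
open QuadraticMap (polar)

universe u

variable {G : Type u} [Group G]

theorem Std.exists_invert [Finite G] (S : Std G) :
    ∃ g : G, g * S.x * g⁻¹ = S.x ^ 2 := by
  obtain ⟨ω, hω, hωβ⟩ := SuzThree.exists_invert
  obtain ⟨h, hh, hhρ⟩ := S.T.ρ_surj ω hω
  let L := Subgroup.centralizer ({S.T.z} : Set G)
  let N : Subgroup L := S.T.Q.subgroupOf L
  haveI : N.Normal := ⟨fun q hq k => Subgroup.mem_subgroupOf.2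
    (S.T.data.norm k (Subgroup.mem_centralizer_singleton_iff.1 k.2) q (Subgroup.mem_subgroupOf.1 hq))⟩
  have hp : IsPGroup 2 N := (IsPGroup.of_card S.T.card_Q).comap_of_injective L.subtype L.subtype_injective
  let a : L := ⟨h * S.x * h⁻¹, mul_mem (mul_mem (Subgroup.mem_centralizer_singleton_iff.2 hh)
    (Subgroup.mem_centralizer_singleton_iff.2 S.hx.hz)) (inv_mem (Subgroup.mem_centralizer_singleton_iff.2 hh))⟩
  let b : L := ⟨S.x ^ 2, pow_mem (Subgroup.mem_centralizer_singleton_iff.2 S.hx.hz) 2⟩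
  have hxz : S.x ^ 2 * S.T.z = S.T.z * S.x ^ 2 := (Commute.pow_left S.hx.hz 2).eq
  obtain ⟨n, hn⟩ := conj_of_congr hp (a := a) (b := b)
    (Subtype.ext (show (h * S.x * h⁻¹) ^ 3 = 1 by rw [conj_pow, S.hx.cube, mul_one, mul_inv_cancel]))
    (Subtype.ext (show (S.x ^ 2) ^ 3 = 1 by rw [← pow_mul, mul_comm, pow_mul, S.hx.cube, one_pow]))
    (Subgroup.mem_subgroupOf.2 (by
      have hhx : h * S.x * S.T.z = S.T.z * (h * S.x) := (Commute.mul_left hh S.hx.hz).eq
      refine (S.T.ρ_ker _ (Subgroup.mem_centralizer_singleton_iff.1 (b⁻¹ * a).2)).1 ?_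
      show S.T.ρ ((S.x ^ 2)⁻¹ * (h * S.x * h⁻¹)) = 1
      rw [S.T.ρ_mul _ _ (Commute.inv_left hxz).eq (Commute.mul_left hhx (Commute.inv_left hh)).eq,
        S.T.ρ_inv hxz, S.T.ρ_mul _ _ hhx (Commute.inv_left hh).eq, S.T.ρ_mul _ _ hh S.hx.hz,
        S.T.ρ_inv hh, hhρ, S.hρ, S.ρ_pow_x, hωβ]
      group))
  refine ⟨n * h, ?_⟩
  have hn' : (n : G) * (h * S.x * h⁻¹) * (n : G)⁻¹ = S.x ^ 2 := congrArg Subtype.val hn
  rw [← hn']; group

theorem Std.index_two [Finite G] (S : Std G) :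
    S.C.relIndex (Subgroup.normalizer (Subgroup.zpowers S.x : Set G)) = 2 := by
  set N := Subgroup.normalizer (Subgroup.zpowers S.x : Set G)
  obtain ⟨g, hg⟩ := S.exists_invert
  have hx2 : S.x ^ 2 ≠ S.x := fun h => S.hx.ne_one (by
    rw [pow_two] at h
    exact mul_eq_left.1 h)
  have hgN : g ∈ N := by
    refine Subgroup.mem_normalizer_fintype fun w hw => ?_
    obtain ⟨i, hi⟩ := S.mem_zpowers_x.1 hw
    rw [hi, ← conj_pow, hg]
    exact pow_mem (pow_mem (Subgroup.mem_zpowers _) 2) i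
  have hN : ∀ w ∈ N, w * S.x * w⁻¹ = S.x ∨ w * S.x * w⁻¹ = S.x ^ 2 := by
    intro w hw
    obtain ⟨i, hi⟩ := S.mem_zpowers_x.1
      ((Subgroup.mem_normalizer_iff.1 hw S.x).1 (Subgroup.mem_zpowers _))
    rw [hi, ← Nat.div_add_mod i 3, pow_add, pow_mul, S.hx.cube, one_pow, one_mul]
    have hlt : i % 3 < 3 := Nat.mod_lt _ (by norm_num)
    interval_cases h : i % 3
    · exfalso
      rw [← Nat.div_add_mod i 3, h, add_zero, pow_mul, S.hx.cube, one_pow, conj_eq_one_iff] at hi
      exact S.hx.ne_one hi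
    · left; rw [pow_one]
    · right; rfl
  rw [Subgroup.relIndex, Subgroup.index_eq_two_iff]
  refine ⟨⟨g, hgN⟩, fun b => ?_⟩
  have hC : ∀ c : G, c ∈ S.C ↔ c * S.x * c⁻¹ = S.x := fun c =>
    Subgroup.mem_centralizer_singleton_iff.trans mul_inv_eq_iff_eq_mul.symm
  simp only [Subgroup.mem_subgroupOf, Subgroup.coe_mul, hC]
  have e : (b : G) * g * S.x * ((b : G) * g)⁻¹ = ((b : G) * S.x * (b : G)⁻¹) ^ 2 := by
    rw [conj_pow, ← hg]; group
  rcases hN b b.2 with h | h
  · exact Or.inr ⟨h, by rw [e, h]; exact hx2⟩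
  · refine Or.inl ⟨?_, by rw [h]; exact hx2⟩
    rw [e, h, ← pow_mul, show 2 * 2 = 3 + 1 from rfl, pow_succ, S.hx.cube, one_mul]

/-- The recognition input. -/
def RecInput (H : Type u) [Group H] (F : Type) [Field F] [Fintype F] : Prop :=
  ∀ z : H, orderOf z = 2 → UHyp z → Nonempty (H ≃* Cfsg.PSU 4 F 3)

/-- The class input. -/
def ClassInput (H : Type u) [Group H] : Prop :=
  ∀ z : H, orderOf z = 2 → UHyp z → ∀ x y : H, orderOf x = 2 → orderOf y = 2 → IsConj x y

theorem uInput [Finite G] {F : Type} [Field F] [Fintype F]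
    (hrec : ∀ (H : Type u) [Group H] [Finite H], RecInput H F)
    (hcls : ∀ (H : Type u) [Group H] [Finite H], ClassInput H) : UInput G F := fun S =>
  ⟨hrec _ S.sect.zb S.sect.orderOf_zb S.sect.uhyp, hcls _ S.sect.zb S.sect.orderOf_zb S.sect.uhyp⟩

theorem main [Finite G] (z : G) (hz : orderOf z = 2) (Q : Subgroup (Subgroup.centralizer ({z} : Set G)))
    [Q.Normal] (hF : Cfsg.generalizedFittingSubgroup (Subgroup.centralizer ({z} : Set G)) = Q)
    (hQ : Cfsg.IsExtraspecial 2 Q) (hcard : Nat.card Q = 2 ^ 7)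
    (e : (Subgroup.centralizer ({z} : Set G)) ⧸ Q ≃* Cfsg.Omega (ZMod 2) (Cfsg.quadFormMinus 2 (ZMod 2) 1 1))
    (hnwc : ∃ g : G, (∃ hq : g * z * g⁻¹ ∈ Subgroup.centralizer ({z} : Set G),
      (⟨g * z * g⁻¹, hq⟩ : Subgroup.centralizer ({z} : Set G)) ∈ Q) ∧ g * z * g⁻¹ ≠ z)
    (Y : Subgroup (Subgroup.centralizer ({z} : Set G))) (hY : Nat.card Y = 3)
    (hQY : Nat.card ↥⁅Q, Y⁆ = 8)
    [((Y.map (Subgroup.subtype (Subgroup.centralizer ({z} : Set G)))).subgroupOf
      (Subgroup.centralizer ((Y.map (Subgroup.subtype (Subgroup.centralizer ({z} : Set G)))) : Set G))).Normal]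
    (K : Type) [Field K] [Fintype K] (hK : Fintype.card K = 9)
    (hrec : ∀ (H : Type u) [Group H] [Finite H], RecInput H K)
    (hcls : ∀ (H : Type u) [Group H] [Finite H], ClassInput H) :
    Cfsg.IsQuasisimple ↥(Subgroup.centralizer
      ((Y.map (Subgroup.subtype (Subgroup.centralizer ({z} : Set G)))) : Set G)) ∧
    Nonempty (↥(Subgroup.centralizer ((Y.map (Subgroup.subtype (Subgroup.centralizer ({z} : Set G)))) : Set G)) ⧸
      (Y.map (Subgroup.subtype (Subgroup.centralizer ({z} : Set G)))).subgroupOf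
        (Subgroup.centralizer ((Y.map (Subgroup.subtype (Subgroup.centralizer ({z} : Set G)))) : Set G))
      ≃* Cfsg.PSU 4 K 3) ∧
    (Subgroup.centralizer ((Y.map (Subgroup.subtype (Subgroup.centralizer ({z} : Set G)))) : Set G)).relIndex
      (Subgroup.normalizer ((Y.map (Subgroup.subtype (Subgroup.centralizer ({z} : Set G)))) : Set G)) = 2 := by
  haveI : Fact (Nat.Prime 3) := ⟨Nat.prime_three⟩
  obtain ⟨T, rfl⟩ := SuzType.exists_co z hz Q hF hQ hcard e hnwc
  have hTQ : T.Q = Q.map (Subgroup.centralizer ({T.z} : Set G)).subtype := by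
    have hle : T.Q ≤ Subgroup.centralizer ({T.z} : Set G) := fun q hq =>
      Subgroup.mem_centralizer_singleton_iff.2 (T.Qz hq)
    set N := T.Q.subgroupOf (Subgroup.centralizer ({T.z} : Set G))
    have hN : N.Normal := ⟨fun q hq k => Subgroup.mem_subgroupOf.2
      (T.data.norm k (Subgroup.mem_centralizer_singleton_iff.1 k.2) q (Subgroup.mem_subgroupOf.1 hq))⟩
    have hcN : Nat.card N = 2 ^ 7 := by
      rw [Nat.card_congr (Subgroup.subgroupOfEquivOfLe hle).toEquiv, T.card_Q]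
    haveI : Fact (Nat.Prime 2) := ⟨Nat.prime_two⟩
    have hNQ : N = Q := by
      refine Subgroup.eq_of_le_of_card_ge ?_ (by rw [hcard, hcN])
      rw [← hF]
      exact (Cores.le_fittingSubgroup hN (IsPGroup.of_card hcN).isNilpotent).trans le_sup_right
    rw [← hNQ, Subgroup.map_subgroupOf_eq_of_le hle]
  obtain ⟨x0, hgen⟩ := (isCyclic_of_prime_card hY).exists_ofOrder_eq_natCard
  rw [hY, ← Subgroup.orderOf_coe] at hgen
  obtain ⟨x1, hx1Y⟩ := x0
  have hY' : Y = Subgroup.zpowers x1 := (Subgroup.eq_of_le_of_card_ge (Subgroup.zpowers_le.2 hx1Y)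
    (by rw [Nat.card_zpowers, hgen, hY])).symm
  have hYmap : Y.map (Subgroup.centralizer ({T.z} : Set G)).subtype = Subgroup.zpowers (x1 : G) := by
    rw [hY', MonoidHom.map_zpowers]; rfl
  have hthr : Thr T (x1 : G) := thr_of_card T (Subgroup.mem_centralizer_singleton_iff.1 x1.2)
    ((Subgroup.orderOf_coe x1).trans hgen) (by
      rw [hTQ, ← hYmap, ← Subgroup.map_commutator,
        Subgroup.card_map_of_injective (Subgroup.centralizer ({T.z} : Set G)).subtype_injective, hQY])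
  obtain ⟨S, hSx, -⟩ := exists_std hthr
  have hSY : Y.map (Subgroup.centralizer ({T.z} : Set G)).subtype = Subgroup.zpowers S.x := by
    rw [hYmap, hSx]
  have hU := uInput (G := G) hrec hcls
  have hC : Subgroup.centralizer ((Y.map (Subgroup.subtype (Subgroup.centralizer ({T.z} : Set G)))) : Set G) = S.C := by
    rw [hSY, Subgroup.zpowers_eq_closure, Subgroup.centralizer_closure]
  refine ⟨(Components.isQuasisimple_congr (MulEquiv.subgroupCongr hC)).2
    (quasisimple (F := K) (by rw [hK]; norm_num) hU S), ?_, by rw [hC, hSY]; exact S.index_two⟩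
  obtain ⟨f⟩ := (hU S).1
  refine ⟨(QuotientGroup.congr _ _ (MulEquiv.subgroupCongr hC) ?_).trans f⟩
  refine le_antisymm ?_ fun w hw => ⟨(MulEquiv.subgroupCongr hC).symm w, ?_, ?_⟩
  · rintro _ ⟨w, hw, rfl⟩
    have hw' := Subgroup.mem_subgroupOf.1 hw
    exact Subgroup.mem_subgroupOf.2 ((SetLike.ext_iff.1 hSY _).1 hw')
  · have hw' := Subgroup.mem_subgroupOf.1 hw
    exact Subgroup.mem_subgroupOf.2 ((SetLike.ext_iff.1 hSY _).2 hw')
  · exact (MulEquiv.subgroupCongr hC).apply_symm_apply w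

end Cfsg.Agent.SuzThree
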